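import Groth.Agent.RSpaceFT.Basic
import Groth.Agent.SiteBase.ModGroth

/-!
# Maps out of presented modules on open subsets, and gluing of maps
-/

set_option backward.isDefEq.respectTransparency false
set_option backward.isDefEq.respectTransparency.types false
set_option linter.style.haveILetI false

universe u

open CategoryTheory CategoryTheory.Limits TopologicalSpace Opposite

noncomputable section

namespace Groth.Agent.RSpaceFT

variable {X : TopCat.{u}} {O : TopCat.Sheaf CommRingCat.{u} X} {F : ModSite.Mod O}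

section copy

variable {U : Opens X} {n m : ℕ} {t : ULift.{u} (Fin n) → ModSite.sect F U}
  {g : ULift.{u} (Fin m) → ULift.{u} (Fin n) → O.obj.obj (op U)}

theorem homU_kill (hP : IsPres F U t g) {G : ModSite.Mod O} (s : ULift.{u} (Fin n) → ModSite.sect G U)
    (hs : ∀ j, ∑ i, g j i • s i = 0) : kernel.ι (homU F t) ≫ homU G s = 0 := by
  apply SheafOfModules.hom_ext
  refine PresheafOfModules.hom_ext fun W => ModuleCat.hom_ext (LinearMap.ext fun z => ?_)
  show (homU G s).val.app W ((kernel.ι (homU F t)).val.app W z) = 0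
  generalize hy : (kernel.ι (homU F t)).val.app W z = y
  have hy0 : (homU F t).val.app W y = 0 := by
    rw [← hy]
    exact congrArg (fun f => f.val.app W z) (kernel.condition (homU F t))
  suffices key : ∀ c : ULift.{u} (Fin n) → (O.over U).obj.obj (op W.unop),
      (homU F t).val.app W (∑ k, c k • SiteBase.basicSec (O.over U) W.unop n k) = 0 →
        (homU G s).val.app W (∑ k, c k • SiteBase.basicSec (O.over U) W.unop n k) = 0 by
    have ey := SiteBase.eq_sum_basicSec (O := O.over U) W.unop y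
    exact (congrArg ((homU G s).val.app W) ey).trans
      (key _ ((congrArg ((homU F t).val.app W) ey).symm.trans hy0))
  intro c h0
  have hc := (homU_sum F t W.unop c).symm.trans h0
  refine (homU_sum G s W.unop c).trans ?_
  refine eq_of_locally G fun x hx => ?_
  obtain ⟨V, e, hxV, d, hd⟩ := hP.rel W.unop.left W.unop.hom.le c hc x hx
  refine ⟨V, e, hxV, ?_⟩
  rw [mres_sum_smul]
  refine Eq.trans (Finset.sum_congr rfl fun i _ => ?_) (sum_kill (e.trans W.unop.hom.le) d hs) |>.trans ?_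
  · rw [mres_mres, ← hd i]
  · exact (map_zero (G.val.map (homOfLE e).op).hom).symm

/-- A killed tuple gives a map on `U`. -/
theorem IsPres.exists_restr_hom (hP : IsPres F U t g) {G : ModSite.Mod O}
    (s : ULift.{u} (Fin n) → ModSite.sect G U) (hs : ∀ j, ∑ i, g j i • s i = 0) :
    ∃ a : (ModSite.restr O U).obj F ⟶ (ModSite.restr O U).obj G,
      ∀ i, a.val.app (op (Over.mk (𝟙 U))) (t i) = s i := by
  haveI := hP.epi_homU
  obtain ⟨a, ha⟩ := CokernelCofork.IsColimit.desc' (Abelian.epiIsCokernelOfKernel _ (kernelIsKernel (homU F t)))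
    (homU G s) (homU_kill hP s hs)
  refine ⟨a, fun i => ?_⟩
  have ha' : homU F t ≫ a = homU G s := ha
  have h1 := congrArg (fun f : SheafOfModules.free (R := ModSite.ringSh (O.over U)) (ULift.{u} (Fin n)) ⟶ _ =>
    f.val.app (op (Over.mk (𝟙 U))) (SiteBase.basicSec (O.over U) (Over.mk (𝟙 U)) n i)) ha'
  simp only [SheafOfModules.comp_val, PresheafOfModules.comp_app] at h1
  exact ((congrArg (a.val.app _) (homU_basic F t i)).symm.trans h1).trans (homU_basic G s i)


end copy

variable {G : ModSite.Mod O}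

/-- The value on an open `W ≤ U` of a map on `U`. -/
def onU {U : Opens X} (a : (ModSite.restr O U).obj F ⟶ (ModSite.restr O U).obj G) (W : Opens X) (hW : W ≤ U)
    (s : ModSite.sect F W) : ModSite.sect G W :=
  a.val.app (op (Over.mk (homOfLE hW))) s

theorem onU_res {U : Opens X} (a : (ModSite.restr O U).obj F ⟶ (ModSite.restr O U).obj G) {W V : Opens X}
    (hW : W ≤ U) (e : V ≤ W) (s : ModSite.sect F W) :
    onU a V (e.trans hW) (mres F e s) = mres G e (onU a W hW s) :=
  PresheafOfModules.naturality_apply a.val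
    (Over.homMk (homOfLE e) : Over.mk (homOfLE (e.trans hW)) ⟶ Over.mk (homOfLE hW)).op s

theorem onU_sum_smul {U : Opens X} (a : (ModSite.restr O U).obj F ⟶ (ModSite.restr O U).obj G) {W : Opens X}
    (hW : W ≤ U) {ι : Type*} [Fintype ι] (c : ι → O.obj.obj (op W)) (t : ι → ModSite.sect F W) :
    onU a W hW (∑ i, c i • t i) = ∑ i, c i • onU a W hW (t i) :=
  (map_sum (a.val.app (op (Over.mk (homOfLE hW)))).hom _ _).trans
    (Finset.sum_congr rfl fun i _ => map_smul (a.val.app (op (Over.mk (homOfLE hW)))).hom (c i) (t i))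

theorem onU_self {U : Opens X} (a : (ModSite.restr O U).obj F ⟶ (ModSite.restr O U).obj G) (s : ModSite.sect F U) :
    onU a U le_rfl s = a.val.app (op (Over.mk (𝟙 U))) s :=
  rfl

theorem onU_comp {H : ModSite.Mod O} {U : Opens X} (a : (ModSite.restr O U).obj F ⟶ (ModSite.restr O U).obj G)
    (φ : G ⟶ H) (W : Opens X) (hW : W ≤ U) (s : ModSite.sect F W) :
    onU (a ≫ (ModSite.restr O U).map φ) W hW s = φ.val.app (op W) (onU a W hW s) :=
  rfl

/-- Maps agreeing on generators agree. -/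
theorem onU_ext {U : Opens X} {n : ℕ} {t : ULift.{u} (Fin n) → ModSite.sect F U} (ht : Gens F U t)
    {W : Opens X} (hW : W ≤ U) (φ ψ : ∀ (V : Opens X), V ≤ W → ModSite.sect F V → ModSite.sect G V)
    (hφres : ∀ (V V' : Opens X) (e : V' ≤ V) (hV : V ≤ W) (s : ModSite.sect F V),
      φ V' (e.trans hV) (mres F e s) = mres G e (φ V hV s))
    (hψres : ∀ (V V' : Opens X) (e : V' ≤ V) (hV : V ≤ W) (s : ModSite.sect F V),
      ψ V' (e.trans hV) (mres F e s) = mres G e (ψ V hV s))
    (hφsum : ∀ (V : Opens X) (hV : V ≤ W) (c : ULift.{u} (Fin n) → O.obj.obj (op V)) (v : ULift.{u} (Fin n) → ModSite.sect F V),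
      φ V hV (∑ i, c i • v i) = ∑ i, c i • φ V hV (v i))
    (hψsum : ∀ (V : Opens X) (hV : V ≤ W) (c : ULift.{u} (Fin n) → O.obj.obj (op V)) (v : ULift.{u} (Fin n) → ModSite.sect F V),
      ψ V hV (∑ i, c i • v i) = ∑ i, c i • ψ V hV (v i))
    (h : ∀ (V : Opens X) (hV : V ≤ W) (i : ULift.{u} (Fin n)),
      φ V hV (mres F (hV.trans hW) (t i)) = ψ V hV (mres F (hV.trans hW) (t i)))
    (s : ModSite.sect F W) : φ W le_rfl s = ψ W le_rfl s := by
  refine eq_of_locally G fun y hy => ?_
  obtain ⟨V, e, hyV, c, hc⟩ := ht W hW s y hy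
  refine ⟨V, e, hyV, ?_⟩
  rw [← hφres W V e le_rfl, ← hψres W V e le_rfl, ← hc, hφsum, hψsum]
  exact Finset.sum_congr rfl fun i _ => congrArg (c i • ·) (h V _ i)

/-- Maps given on the members of a cover and agreeing on overlaps glue. -/
theorem exists_hom_glue {ι : Type u} (U : ι → Opens X) (hU : iSup U = ⊤)
    (a : ∀ i, (ModSite.restr O (U i)).obj F ⟶ (ModSite.restr O (U i)).obj G)
    (hc : ∀ i j (W : Opens X) (h₁ : W ≤ U i) (h₂ : W ≤ U j) (s : ModSite.sect F W), onU (a i) W h₁ s = onU (a j) W h₂ s) :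
    ∃ α : F ⟶ G, ∀ i (W : Opens X) (hW : W ≤ U i) (s : ModSite.sect F W), α.val.app (op W) s = onU (a i) W hW s := by
  have hex : ∀ (W : Opens X) (s : ModSite.sect F W), ∃ y : ModSite.sect G W, ∀ i,
      mres G (inf_le_left : W ⊓ U i ≤ W) y = onU (a i) (W ⊓ U i) inf_le_right (mres F inf_le_left s) := fun W s => by
    let Gs : TopCat.Sheaf AddCommGrpCat.{u} X := ⟨G.val.presheaf, G.isSheaf⟩
    obtain ⟨y, hy, -⟩ := TopCat.Sheaf.existsUnique_gluing' Gs (fun i => W ⊓ U i) W (fun i => homOfLE inf_le_left)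
      (fun p hp => by
        obtain ⟨i, hi⟩ := Opens.mem_iSup.mp (hU.ge (Opens.mem_top p))
        exact Opens.mem_iSup.mpr ⟨i, hp, hi⟩)
      (fun i => onU (a i) (W ⊓ U i) inf_le_right (mres F inf_le_left s)) fun i j => by
        show mres G (inf_le_left : (W ⊓ U i) ⊓ (W ⊓ U j) ≤ W ⊓ U i) _ = mres G inf_le_right _
        rw [← onU_res, ← onU_res, mres_mres, mres_mres]
        exact hc i j _ _ _ _
    exact ⟨y, hy⟩
  choose c hc' using hex
  have huniq : ∀ (W : Opens X) (y y' : ModSite.sect G W),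
      (∀ i, mres G (inf_le_left : W ⊓ U i ≤ W) y = mres G inf_le_left y') → y = y' := fun W y y' h =>
    eq_of_locally G fun p hp => by
      obtain ⟨i, hi⟩ := Opens.mem_iSup.mp (hU.ge (Opens.mem_top p))
      exact ⟨W ⊓ U i, inf_le_left, ⟨hp, hi⟩, h i⟩
  have hadd : ∀ W (x y : ModSite.sect F W), c W (x + y) = c W x + c W y := fun W x y => huniq W _ _ fun i => by
    rw [mres_add G, hc', hc', hc', mres_add F]
    exact map_add ((a i).val.app (op (Over.mk (homOfLE (inf_le_right : W ⊓ U i ≤ U i))))).hom _ _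
  have hsmul : ∀ W (r : O.obj.obj (op W)) (y : ModSite.sect F W), c W (r • y) = r • c W y := fun W r y =>
    huniq W _ _ fun i => by
      rw [mres_smul G, hc', hc', mres_smul F]
      exact map_smul ((a i).val.app (op (Over.mk (homOfLE (inf_le_right : W ⊓ U i ≤ U i))))).hom (ores O inf_le_left r) _
  have hnat : ∀ {W V : Opens X} (e : V ≤ W) (y : ModSite.sect F W), c V (mres F e y) = mres G e (c W y) :=
    fun {W V} e y => huniq V _ _ fun i => by
      rw [hc', mres_mres, mres_mres, ← mres_mres F (inf_le_left : W ⊓ U i ≤ W) (inf_le_inf_right (U i) e),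
        ← mres_mres G (inf_le_left : W ⊓ U i ≤ W) (inf_le_inf_right (U i) e), hc']
      exact onU_res (a i) (inf_le_right : W ⊓ U i ≤ U i) (inf_le_inf_right (U i) e) _
  let θ : F.val.presheaf ⟶ G.val.presheaf :=
    { app := fun W => AddCommGrpCat.ofHom (AddMonoidHom.mk' (c W.unop) (hadd W.unop))
      naturality := fun W V i => AddCommGrpCat.ext fun y => hnat i.unop.le y }
  refine ⟨⟨PresheafOfModules.homMk θ fun W r y => hsmul W.unop r y⟩, fun i W hW s => ?_⟩
  show c W s = onU (a i) W hW s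
  refine eq_of_locally G fun p hp => ⟨W ⊓ U i, inf_le_left, ⟨hp, hW hp⟩, ?_⟩
  rw [hc', ← onU_res]

/-- Two sections of a stage agreeing in a colimit agree at a later stage near every point. -/
theorem exists_stage_eq_near {I : Type u} [SmallCategory I] [IsFiltered I] {D : I ⥤ ModSite.Mod O} {c : Cocone D}
    (hc : IsColimit c) {i : I} {W : Opens X} (s s' : ModSite.sect (D.obj i) W)
    (h : (c.ι.app i).val.app (op W) s = (c.ι.app i).val.app (op W) s') {x : X} (hx : x ∈ W) :
    ∃ (j : I) (f : i ⟶ j) (V : Opens X) (e : V ≤ W), x ∈ V ∧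
      mres (D.obj j) e ((D.map f).val.app (op W) s) = mres (D.obj j) e ((D.map f).val.app (op W) s') := by
  let p := Opens.pointGrothendieckTopology x
  haveI := SiteBase.preservesColimitsOfSize_toSheaf.{u} (ModSite.ringSh O)
  have hc' := isColimitOfPreserves (forget AddCommGrpCat.{u})
    (isColimitOfPreserves p.sheafFiber (isColimitOfPreserves (SheafOfModules.toSheaf (ModSite.ringSh O)) hc))
  have h1 : (ModSite.stalkMap p (c.ι.app i)).hom (ModSite.germ p (D.obj i) W ⟨⟨hx⟩⟩ s) =
      (ModSite.stalkMap p (c.ι.app i)).hom (ModSite.germ p (D.obj i) W ⟨⟨hx⟩⟩ s') :=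
    (stalkMap_germ (c.ι.app i) x hx s).trans ((congrArg (ModSite.germ p c.pt W ⟨⟨hx⟩⟩) h).trans
      (stalkMap_germ (c.ι.app i) x hx s').symm)
  obtain ⟨j, f₁, f₂, hj⟩ := (Types.FilteredColimit.isColimit_eq_iff _ hc').mp h1
  let k := IsFiltered.coeq f₁ f₂
  let f : i ⟶ k := f₁ ≫ IsFiltered.coeqHom f₁ f₂
  have hf : f = f₂ ≫ IsFiltered.coeqHom f₁ f₂ := IsFiltered.coeq_condition f₁ f₂
  let L := ((SheafOfModules.toSheaf (ModSite.ringSh O)) ⋙ p.sheafFiber ⋙ forget AddCommGrpCat.{u})
  have h2 : (D ⋙ L).map f (ModSite.germ p (D.obj i) W ⟨⟨hx⟩⟩ s) = (D ⋙ L).map f (ModSite.germ p (D.obj i) W ⟨⟨hx⟩⟩ s') := by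
    conv_rhs => rw [hf]
    simp only [f, Functor.map_comp, types_comp_apply]
    exact congrArg ((D ⋙ L).map (IsFiltered.coeqHom f₁ f₂)) hj
  have h3 := (stalkMap_germ (D.map f) x hx s).symm.trans (Eq.trans h2 (stalkMap_germ (D.map f) x hx s'))
  obtain ⟨V, e, hxV, hV⟩ := eq_of_germ x hx h3
  exact ⟨k, f, V, e, hxV, hV⟩

end Groth.Agent.RSpaceFT
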