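import Groth.Agent.RSpaceFT.Core
import Mathlib.Topology.Sheaves.Points

/-!
# Modules of finite type on ringed spaces
-/

set_option backward.isDefEq.respectTransparency false
set_option backward.isDefEq.respectTransparency.types false
set_option linter.style.haveILetI false

universe u

open CategoryTheory CategoryTheory.Limits TopologicalSpace Opposite
open Groth.Agent.FModLib (epi_of_locally)

noncomputable section

namespace Groth.Agent.RSpaceFT

variable {X : TopCat.{u}} {O : TopCat.Sheaf CommRingCat.{u} X} {F G : ModSite.Mod O}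

/-- `t` generates `F` near every point of `U`. -/
def Gens (F : ModSite.Mod O) (U : Opens X) {n : ℕ} (t : ULift.{u} (Fin n) → ModSite.sect F U) : Prop :=
  ∀ (W : Opens X) (hW : W ≤ U) (s : ModSite.sect F W), ∀ y ∈ W,
    ∃ (V : Opens X) (e : V ≤ W), y ∈ V ∧ ∃ c : ULift.{u} (Fin n) → O.obj.obj (op V),
      ∑ i, c i • mres F (e.trans hW) (t i) = mres F e s

theorem exists_gens' [hF : SheafOfModules.IsFiniteType.{u} (R := ModSite.ringSh O) F] (x : X) :
    ∃ (U : Opens X) (n : ℕ) (t : ULift.{u} (Fin n) → ModSite.sect F U), x ∈ U ∧ Gens F U t :=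
  exists_gens hF x

theorem Gens.mono {U U' : Opens X} {n : ℕ} {t : ULift.{u} (Fin n) → ModSite.sect F U} (ht : Gens F U t) (e : U' ≤ U) :
    Gens F U' (fun i => mres F e (t i)) := fun W hW s y hy => by
  obtain ⟨V, e', hyV, c, hc⟩ := ht W (hW.trans e) s y hy
  exact ⟨V, e', hyV, c, by simp only [mres_mres]; exact hc⟩

theorem Gens.epi_homU {U : Opens X} {n : ℕ} {t : ULift.{u} (Fin n) → ModSite.sect F U} (ht : Gens F U t) :
    Epi (homU F t) := by
  refine FModLib.epi_of_locally (C := Over U) (O := O.over U) (homU F t) fun W s => ?_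
  obtain ⟨S, hS, h⟩ := sieve_of_local (W := W)
    (fun V => ∃ (e : V ≤ W.left) (c : ULift.{u} (Fin n) → O.obj.obj (op V)),
      ∑ i, c i • mres F (e.trans W.hom.le) (t i) = mres F e s) (fun x hx => by
      obtain ⟨V, e, hxV, c, hc⟩ := ht W.left W.hom.le s x hx
      exact ⟨V, e, hxV, e, c, hc⟩)
  refine ⟨S, hS, fun W' a ha => ?_⟩
  obtain ⟨V, ⟨e, c, hc⟩, h1, -⟩ := h a ha
  refine ⟨_, (homU_sum F t W' fun i => ores O h1 (c i)).trans ?_⟩
  have := congrArg (mres F h1) hc
  simp only [mres_sum_smul, mres_mres] at this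
  exact this

/-- A module with finitely many generators near every point is of finite type. -/
theorem isFiniteType_of_gens
    (h : ∀ x : X, ∃ (U : Opens X) (n : ℕ) (t : ULift.{u} (Fin n) → ModSite.sect F U), x ∈ U ∧ Gens F U t) :
    SheafOfModules.IsFiniteType.{u} (R := ModSite.ringSh O) F := by
  choose U n t hxU ht using h
  have hcov : (Opens.grothendieckTopology X).CoversTop U :=
    (_root_.Opens.coversTop_iff _ U).mpr (eq_top_iff.mpr fun x _ => Opens.mem_iSup.mpr ⟨x, hxU x⟩)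
  let σ : SheafOfModules.LocalGeneratorsData F :=
    { I := ↥X, X := U, coversTop := hcov
      generators := fun x =>
        { I := ULift.{u} (Fin (n x))
          s := SheafOfModules.freeHomEquiv _ (homU F (t x))
          epi := by rw [Equiv.symm_apply_apply]; exact (ht x).epi_homU } }
  constructor
  refine ⟨σ, ?_⟩
  constructor
  intro x
  constructor
  exact Finite.of_fintype (ULift.{u} (Fin (n x)))

/-- Epimorphisms are surjective near every point. -/
theorem exists_preimage (φ : G ⟶ F) [Epi φ] {W : Opens X} (s : ModSite.sect F W) {x : X} (hx : x ∈ W) :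
    ∃ (V : Opens X) (e : V ≤ W), x ∈ V ∧ ∃ g : ModSite.sect G V, φ.val.app (op V) g = mres F e s := by
  obtain ⟨S, hS, h⟩ := SuppCore.exists_cover_lift φ s
  obtain ⟨V, f, hf, hxV⟩ := hS x hx
  obtain ⟨g, hg⟩ := h f hf
  exact ⟨V, f.le, hxV, g, hg⟩

/-- Sections killed near every point are zero. -/
theorem epi_of_preimage (φ : G ⟶ F)
    (h : ∀ (W : Opens X) (s : ModSite.sect F W), ∀ x ∈ W,
      ∃ (V : Opens X) (e : V ≤ W), x ∈ V ∧ ∃ g : ModSite.sect G V, φ.val.app (op V) g = mres F e s) : Epi φ := by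
  refine FModLib.epi_of_locally φ fun W s => ?_
  refine ⟨⟨fun V f => ∃ g : ModSite.sect G V, φ.val.app (op V) g = F.val.map f.op s, ?_⟩, ?_, fun _ _ h => h⟩
  · rintro V V' f ⟨g, hg⟩ a
    refine ⟨G.val.map a.op g, (PresheafOfModules.naturality_apply φ.val a.op g).trans ?_⟩
    rw [hg]
    exact (congr($(F.val.presheaf.map_comp f.op a.op).hom s)).symm
  · intro x hx
    obtain ⟨V, e, hxV, g, hg⟩ := h W s x hx
    exact ⟨V, homOfLE e, ⟨g, hg⟩, hxV⟩

/-- The stalk at `x` as germs. -/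
theorem exists_germ (x : X) (z : ModSite.stalkAb (Opens.pointGrothendieckTopology x) F) :
    ∃ (V : Opens X) (hx : x ∈ V) (s : ModSite.sect F V), ModSite.germ (Opens.pointGrothendieckTopology x) F V ⟨⟨hx⟩⟩ s = z := by
  obtain ⟨V, ⟨⟨hx⟩⟩, s, hs⟩ :=
    (Opens.pointGrothendieckTopology x).toPresheafFiber_jointly_surjective (P := (ModSite.toAb F).obj) z
  exact ⟨V, hx, s, hs⟩

theorem germ_res (x : X) {U V : Opens X} (e : V ≤ U) (hx : x ∈ V) (s : ModSite.sect F U) :
    ModSite.germ (Opens.pointGrothendieckTopology x) F V ⟨⟨hx⟩⟩ (mres F e s) =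
      ModSite.germ (Opens.pointGrothendieckTopology x) F U ⟨⟨e hx⟩⟩ s :=
  (Opens.pointGrothendieckTopology x).toPresheafFiber_w_apply (homOfLE e) ⟨⟨hx⟩⟩ (ModSite.toAb F).obj s

theorem eq_of_germ (x : X) {U : Opens X} (hx : x ∈ U) {s t : ModSite.sect F U}
    (h : ModSite.germ (Opens.pointGrothendieckTopology x) F U ⟨⟨hx⟩⟩ s =
      ModSite.germ (Opens.pointGrothendieckTopology x) F U ⟨⟨hx⟩⟩ t) :
    ∃ (V : Opens X) (e : V ≤ U), x ∈ V ∧ mres F e s = mres F e t := by
  obtain ⟨V, f, ⟨⟨hxV⟩⟩, -, hV⟩ :=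
    ((Opens.pointGrothendieckTopology x).toPresheafFiber_eq_iff' (P := (ModSite.toAb F).obj) U ⟨⟨hx⟩⟩ s t).mp h
  exact ⟨V, f.le, hxV, hV⟩

theorem stalkMap_germ (φ : G ⟶ F) (x : X) {U : Opens X} (hx : x ∈ U) (s : ModSite.sect G U) :
    (ModSite.stalkMap (Opens.pointGrothendieckTopology x) φ).hom
        (ModSite.germ (Opens.pointGrothendieckTopology x) G U ⟨⟨hx⟩⟩ s) =
      ModSite.germ (Opens.pointGrothendieckTopology x) F U ⟨⟨hx⟩⟩ (φ.val.app (op U) s) :=
  (Opens.pointGrothendieckTopology x).toPresheafFiber_naturality_apply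
    ((SheafOfModules.toSheaf (ModSite.ringSh O)).map φ).hom U ⟨⟨hx⟩⟩ s

/-- Finitely many open neighbourhoods contain a common one. -/
theorem exists_common_nhd {ι : Type*} [Finite ι] (x : X) (V : ι → Opens X) (hV : ∀ i, x ∈ V i) (U : Opens X)
    (hU : x ∈ U) : ∃ W : Opens X, x ∈ W ∧ W ≤ U ∧ ∀ i, W ≤ V i := by
  classical
  cases nonempty_fintype ι
  refine ⟨⟨(U : Set X) ∩ ⋂ i, (V i : Set X), U.2.inter (isOpen_iInter_of_finite fun i => (V i).2)⟩,
    ⟨hU, Set.mem_iInter.mpr hV⟩, fun y hy => hy.1, fun i y hy => Set.mem_iInter.mp hy.2 i⟩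

/-- Exact sequences are exact on sections near every point. -/
theorem exists_lift_of_exact {S : ShortComplex (ModSite.Mod O)} (hS : S.Exact) {W : Opens X}
    (b : ModSite.sect S.X₂ W) (hb : S.g.val.app (op W) b = 0) {x : X} (hx : x ∈ W) :
    ∃ (V : Opens X) (e : V ≤ W), x ∈ V ∧ ∃ a : ModSite.sect S.X₁ V, S.f.val.app (op V) a = mres S.X₂ e b := by
  obtain ⟨k, hk⟩ := exists_kernel_lift S.g W b hb
  haveI : Epi (kernel.lift S.g S.f S.zero) := (ShortComplex.exact_iff_epi_kernel_lift _).mp hS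
  obtain ⟨V, e, hxV, a, ha⟩ := exists_preimage (kernel.lift S.g S.f S.zero) k hx
  refine ⟨V, e, hxV, a, ?_⟩
  rw [← hk, ← mapp_res _ (kernel.ι S.g) e k, ← ha]
  exact congrArg (fun φ : S.X₁ ⟶ S.X₂ => φ.val.app (op V) a) (kernel.lift_ι S.g S.f S.zero).symm

/-- Surjectivity near every point of `U` gives an epimorphism on `U`. -/
theorem epi_restr_of_preimage (φ : G ⟶ F) {U : Opens X}
    (h : ∀ (W : Opens X), W ≤ U → ∀ (s : ModSite.sect F W), ∀ x ∈ W,
      ∃ (V : Opens X) (e : V ≤ W), x ∈ V ∧ ∃ g : ModSite.sect G V, φ.val.app (op V) g = mres F e s) :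
    Epi ((ModSite.restr O U).map φ) := by
  refine FModLib.epi_of_locally (C := Over U) (O := O.over U) ((ModSite.restr O U).map φ) fun W s => ?_
  obtain ⟨S, hS, hs⟩ := sieve_of_local (W := W)
    (fun V => ∃ (e : V ≤ W.left) (g : ModSite.sect G V), φ.val.app (op V) g = mres F e s) (fun x hx => by
      obtain ⟨V, e, hxV, g, hg⟩ := h W.left W.hom.le s x hx
      exact ⟨V, e, hxV, e, g, hg⟩)
  refine ⟨S, hS, fun W' a ha => ?_⟩
  obtain ⟨V, ⟨e, g, hg⟩, h1, -⟩ := hs a ha
  exact ⟨mres G h1 g, (mapp_res _ φ h1 g).trans ((congrArg (mres F h1) hg).trans (mres_mres F e h1 s))⟩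

/-- A germ in the image of a stalk map is locally in the image. -/
theorem exists_preimage_of_germ (φ : G ⟶ F) {W : Opens X} (s : ModSite.sect F W) {x : X} (hx : x ∈ W)
    (z : ModSite.stalkAb (Opens.pointGrothendieckTopology x) G)
    (hz : (ModSite.stalkMap (Opens.pointGrothendieckTopology x) φ).hom z =
      ModSite.germ (Opens.pointGrothendieckTopology x) F W ⟨⟨hx⟩⟩ s) :
    ∃ (V : Opens X) (e : V ≤ W), x ∈ V ∧ ∃ g : ModSite.sect G V, φ.val.app (op V) g = mres F e s := by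
  obtain ⟨V₁, hx₁, g, rfl⟩ := exists_germ (F := G) x z
  have hx₂ : x ∈ W ⊓ V₁ := ⟨hx, hx₁⟩
  rw [stalkMap_germ, ← germ_res x (inf_le_left : W ⊓ V₁ ≤ W) hx₂ s,
    ← germ_res x (inf_le_right : W ⊓ V₁ ≤ V₁) hx₂ (φ.val.app (op V₁) g)] at hz
  obtain ⟨V, e, hxV, hV⟩ := eq_of_germ x hx₂ hz
  refine ⟨V, e.trans inf_le_left, hxV, mres G (e.trans inf_le_right) g, ?_⟩
  rw [mres_mres, mres_mres] at hV
  exact (mapp_res _ φ _ g).trans hV

/-- Sections of a colimit come from the stages near every point. -/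
theorem exists_stage_near {I : Type u} [SmallCategory I] [IsFiltered I] {D : I ⥤ ModSite.Mod O} {c : Cocone D} (hc : IsColimit c)
    {W : Opens X} (s : ModSite.sect c.pt W) {x : X} (hx : x ∈ W) :
    ∃ (i : I) (V : Opens X) (e : V ≤ W), x ∈ V ∧ ∃ g : ModSite.sect (D.obj i) V,
      (c.ι.app i).val.app (op V) g = mres c.pt e s := by
  let p := Opens.pointGrothendieckTopology x
  haveI := SiteBase.preservesColimitsOfSize_toSheaf.{u} (ModSite.ringSh O)
  have hc' := isColimitOfPreserves (forget AddCommGrpCat.{u})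
    (isColimitOfPreserves p.sheafFiber (isColimitOfPreserves (SheafOfModules.toSheaf (ModSite.ringSh O)) hc))
  obtain ⟨i, z, hz⟩ := Types.jointly_surjective_of_isColimit hc' (ModSite.germ p c.pt W ⟨⟨hx⟩⟩ s)
  exact ⟨i, exists_preimage_of_germ (c.ι.app i) s hx z hz⟩

end Groth.Agent.RSpaceFT
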