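import Groth.Agent.RSpaceFT.Basic

/-!
# Bases of modules over open subsets of a ringed space
-/

set_option backward.isDefEq.respectTransparency false
set_option backward.isDefEq.respectTransparency.types false
set_option linter.style.haveILetI false

universe u

open CategoryTheory CategoryTheory.Limits TopologicalSpace Opposite
open Groth.Agent.FModLib (homOf homOf_sum epi_of_locally)

noncomputable section

namespace Groth.Agent.RSpaceFT

variable {X : TopCat.{u}} {O : TopCat.Sheaf CommRingCat.{u} X} {F G : ModSite.Mod O}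

theorem mapp_smul (α : F ⟶ G) {U : Opens X} (r : O.obj.obj (op U)) (x : ModSite.sect F U) :
    α.val.app (op U) (r • x) = r • (show ModSite.sect G U from α.val.app (op U) x) :=
  map_smul (α.val.app (op U)).hom r x

theorem ring_eq_of_locally {U : Opens X} {a b : O.obj.obj (op U)}
    (h : ∀ p ∈ U, ∃ (V : Opens X) (e : V ≤ U), p ∈ V ∧ ores O e a = ores O e b) : a = b := by
  choose V e hp hV using h
  refine TopCat.Sheaf.eq_of_locally_eq' O
    (fun p : U => V p.1 p.2) U (fun p => homOfLE (e p.1 p.2))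
    (fun p hpU => Opens.mem_iSup.mpr ⟨⟨p, hpU⟩, hp p hpU⟩) a b fun p => hV p.1 p.2

/-- A map of modules injective on sections is a monomorphism. -/
theorem mono_of_sect_injective {C : Type u} [SmallCategory C] {J : GrothendieckTopology C}
    {O : Sheaf J CommRingCat.{u}} {F G : ModSite.Mod O} (φ : F ⟶ G)
    (h : ∀ W : C, Function.Injective (φ.val.app (op W))) : Mono φ :=
  ⟨fun g₁ g₂ e => SheafOfModules.hom_ext (PresheafOfModules.hom_ext fun W => ModuleCat.hom_ext
    (LinearMap.ext fun z => h W.unop (congrArg (fun f => f.val.app W z) e)))⟩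

/-- `t` is a basis of `F` on `U`. -/
structure Basis (F : ModSite.Mod O) (U : Opens X) {n : ℕ} (t : ULift.{u} (Fin n) → ModSite.sect F U) : Prop where
  gens : Gens F U t
  indep : ∀ (W : Opens X) (hW : W ≤ U) (c : ULift.{u} (Fin n) → O.obj.obj (op W)),
    ∑ i, c i • mres F hW (t i) = 0 → c = 0

/-- An independent family over `U` has unique coefficients. -/
theorem Basis.ext {U W : Opens X} {n : ℕ} {t : ULift.{u} (Fin n) → ModSite.sect F U} (ht : Basis F U t) (hW : W ≤ U)
    {c d : ULift.{u} (Fin n) → O.obj.obj (op W)}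
    (h : ∑ i, c i • mres F hW (t i) = ∑ i, d i • mres F hW (t i)) : c = d := by
  refine sub_eq_zero.mp (ht.indep W hW (c - d) ?_)
  simp only [Pi.sub_apply, sub_smul, Finset.sum_sub_distrib, h, sub_self]

theorem Basis.mono {U U' : Opens X} {n : ℕ} {t : ULift.{u} (Fin n) → ModSite.sect F U} (ht : Basis F U t) (e : U' ≤ U) :
    Basis F U' (fun i => mres F e (t i)) :=
  ⟨ht.gens.mono e, fun W hW c hc => ht.indep W (hW.trans e) c (by simpa only [mres_mres] using hc)⟩

/-- A basis trivializes. -/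
theorem Basis.isIso_homU {U : Opens X} {n : ℕ} {t : ULift.{u} (Fin n) → ModSite.sect F U} (ht : Basis F U t) :
    IsIso (homU F t) := by
  haveI := ht.gens.epi_homU
  haveI : Mono (homU F t) := mono_of_sect_injective (C := Over U) (O := O.over U) (homU F t) fun W y z hyz => by
    rw [SiteBase.eq_sum_basicSec (O := O.over U) W y, SiteBase.eq_sum_basicSec (O := O.over U) W z] at hyz ⊢
    have hyz' := ((homU_sum F t W _).symm.trans hyz).trans (homU_sum F t W _)
    have h2 := ht.ext W.hom.le hyz'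
    exact Finset.sum_congr rfl fun k _ => congrArg (· • _) (congrFun h2 k)
  exact isIso_of_mono_of_epi _

theorem Basis.nonempty_iso {U : Opens X} {n : ℕ} {t : ULift.{u} (Fin n) → ModSite.sect F U} (ht : Basis F U t) :
    Nonempty ((ModSite.restr O U).obj F ≅ SheafOfModules.free (ULift.{u} (Fin n))) := by
  haveI := ht.isIso_homU
  exact ⟨(asIso (homU F t)).symm⟩

/-- A trivialization gives a basis. -/
theorem exists_basis {U : Opens X} {n : ℕ}
    (e : (ModSite.restr O U).obj F ≅ SheafOfModules.free (ULift.{u} (Fin n))) :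
    ∃ t : ULift.{u} (Fin n) → ModSite.sect F U, Basis F U t := by
  let t : ULift.{u} (Fin n) → ModSite.sect F U := fun i =>
    e.inv.val.app (op (Over.mk (𝟙 U))) (SiteBase.basicSec (O.over U) (Over.mk (𝟙 U)) n i)
  have he : e.inv = homU F t :=
    eq_homOf (C := Over U) (O := O.over U) (T := Over.mk (𝟙 U)) Over.mkIdTerminal e.inv
  refine ⟨t, fun W hW s y hy => ?_, fun W hW c hc => ?_⟩
  · refine ⟨W, le_rfl, hy, fun k => ((SiteBase.coordHom (O := O.over U) k).val.app (op (Over.mk (homOfLE hW)))).hom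
      (e.hom.val.app (op (Over.mk (homOfLE hW))) s), ?_⟩
    refine (homU_sum F t (Over.mk (homOfLE hW)) _).symm.trans ?_
    rw [← he]
    refine (congrArg (e.inv.val.app _) (SiteBase.eq_sum_basicSec (O := O.over U) _ _).symm).trans ?_
    exact (congrArg (fun f : (ModSite.restr O U).obj F ⟶ (ModSite.restr O U).obj F =>
      f.val.app (op (Over.mk (homOfLE hW))) s) e.hom_inv_id).trans (mres_rfl F s).symm
  · have h1 : (homU F t).val.app (op (Over.mk (homOfLE hW)))
        (∑ k, (show (O.over U).obj.obj (op (Over.mk (homOfLE hW))) from c k) •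
          SiteBase.basicSec (O.over U) (Over.mk (homOfLE hW)) n k) = 0 := (homU_sum F t _ _).trans hc
    rw [← he] at h1
    have h2 := congrArg (e.hom.val.app (op (Over.mk (homOfLE hW)))) h1
    rw [map_zero] at h2
    have h3 := (congrArg (fun f : SheafOfModules.free (R := ModSite.ringSh (O.over U)) (ULift.{u} (Fin n)) ⟶ _ =>
      f.val.app (op (Over.mk (homOfLE hW))) (∑ k, (show (O.over U).obj.obj (op (Over.mk (homOfLE hW))) from c k) •
          SiteBase.basicSec (O.over U) (Over.mk (homOfLE hW)) n k)) e.inv_hom_id).symm.trans h2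
    have h4 := toCoords_sum_basicSec (C := Over U) (O := O.over U) (Over.mk (homOfLE hW)) (n := n) c
    funext k
    refine (congrFun h4 k).symm.trans ?_
    refine (congrArg (fun z => SiteBase.toCoords n _ z k) h3).trans ?_
    exact congrFun (map_zero _) k

/-- Germs of the structure sheaf at `x`. -/
abbrev gR (x : X) {U : Opens X} (hx : x ∈ U) : O.obj.obj (op U) →+*
    ModSite.stalkRing (Opens.pointGrothendieckTopology x) O :=
  ((Opens.pointGrothendieckTopology x).toPresheafFiber U ⟨⟨hx⟩⟩ O.obj).hom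

/-- Germs of a module at `x`. -/
abbrev gM (F : ModSite.Mod O) (x : X) {U : Opens X} (hx : x ∈ U) : ModSite.sect F U →+
    ModSite.stalkAb (Opens.pointGrothendieckTopology x) F :=
  ((Opens.pointGrothendieckTopology x).toPresheafFiber U ⟨⟨hx⟩⟩ (ModSite.toAb F).obj).hom

theorem gR_res (x : X) {U V : Opens X} (e : V ≤ U) (hx : x ∈ V) (r : O.obj.obj (op U)) :
    gR x hx (ores O e r) = gR x (e hx) r :=
  (Opens.pointGrothendieckTopology x).toPresheafFiber_w_apply (homOfLE e) ⟨⟨hx⟩⟩ O.obj r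

theorem exists_gR (x : X) (z : ModSite.stalkRing (Opens.pointGrothendieckTopology x) O) :
    ∃ (V : Opens X) (hx : x ∈ V) (r : O.obj.obj (op V)), gR x hx r = z := by
  obtain ⟨V, ⟨⟨hx⟩⟩, r, hr⟩ := (Opens.pointGrothendieckTopology x).toPresheafFiber_jointly_surjective (P := O.obj) z
  exact ⟨V, hx, r, hr⟩

theorem eq_of_gR (x : X) {U : Opens X} (hx : x ∈ U) {a b : O.obj.obj (op U)} (h : gR x hx a = gR x hx b) :
    ∃ (V : Opens X) (e : V ≤ U), x ∈ V ∧ ores O e a = ores O e b := by
  obtain ⟨V, f, ⟨⟨hxV⟩⟩, -, hV⟩ :=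
    ((Opens.pointGrothendieckTopology x).toPresheafFiber_eq_iff' (P := O.obj) U ⟨⟨hx⟩⟩ a b).mp h
  exact ⟨V, f.le, hxV, hV⟩

theorem gM_res (x : X) {U V : Opens X} (e : V ≤ U) (hx : x ∈ V) (s : ModSite.sect F U) :
    gM F x hx (mres F e s) = gM F x (e hx) s :=
  germ_res x e hx s

theorem gM_smul (x : X) {U : Opens X} (hx : x ∈ U) (r : O.obj.obj (op U)) (s : ModSite.sect F U) :
    gM F x hx (r • s) = gR x hx r • gM F x hx s :=
  ModSite.germ_smul (Opens.pointGrothendieckTopology x) F U ⟨⟨hx⟩⟩ r s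

theorem gM_sum_smul (x : X) {U : Opens X} (hx : x ∈ U) {ι : Type*} [Fintype ι] (c : ι → O.obj.obj (op U))
    (t : ι → ModSite.sect F U) :
    gM F x hx (∑ i, c i • t i) = ∑ i, gR x hx (c i) • gM F x hx (t i) := by
  rw [map_sum]
  exact Finset.sum_congr rfl fun i _ => ModSite.germ_smul (Opens.pointGrothendieckTopology x) F U ⟨⟨hx⟩⟩ (c i) (t i)

/-- Finitely many germ equations hold on a common neighbourhood. -/
theorem exists_nhd_eq_of_gR {ι : Type*} [Finite ι] (x : X) {U : Opens X} (hx : x ∈ U) (a b : ι → O.obj.obj (op U))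
    (h : ∀ i, gR x hx (a i) = gR x hx (b i)) :
    ∃ (W : Opens X) (e : W ≤ U), x ∈ W ∧ ∀ i, ores O e (a i) = ores O e (b i) := by
  choose V e hxV hV using fun i => eq_of_gR x hx (h i)
  obtain ⟨W, hxW, hW, hWV⟩ := exists_common_nhd x V hxV U hx
  exact ⟨W, hW, hxW, fun i => by rw [← ores_ores (e i) (hWV i), hV i, ores_ores]⟩

/-- Finitely many germ equations hold on a common neighbourhood. -/
theorem exists_nhd_eq_of_gM {ι : Type*} [Finite ι] (x : X) {U : Opens X} (hx : x ∈ U) (a b : ι → ModSite.sect F U)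
    (h : ∀ i, gM F x hx (a i) = gM F x hx (b i)) :
    ∃ (W : Opens X) (e : W ≤ U), x ∈ W ∧ ∀ i, mres F e (a i) = mres F e (b i) := by
  choose V e hxV hV using fun i => eq_of_germ x hx (h i)
  obtain ⟨W, hxW, hW, hWV⟩ := exists_common_nhd x V hxV U hx
  exact ⟨W, hW, hxW, fun i => by rw [← mres_mres F (e i) (hWV i), hV i, mres_mres]⟩

/-- A finitely presented module with free stalk has a basis near the point. -/
theorem exists_basis_of_stalk_free (hF : SheafOfModules.IsFinitePresentation.{u} (R := ModSite.ringSh O) F) (x : X)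
    {r : ℕ} (b : Module.Basis (ULift.{u} (Fin r)) (ModSite.stalkRing (Opens.pointGrothendieckTopology x) O)
      (ModSite.stalkMod (Opens.pointGrothendieckTopology x) F)) :
    ∃ (U : Opens X) (t : ULift.{u} (Fin r) → ModSite.sect F U), x ∈ U ∧ Basis F U t := by
  obtain ⟨U₀, n, m, s, g, hx₀, hP⟩ := exists_isPres hF x
  choose V hxV t' ht' using fun j => exists_germ (F := F) x (b j)
  obtain ⟨U₁, hx₁, e₁, hV⟩ := exists_common_nhd x V hxV U₀ hx₀
  let t : ULift.{u} (Fin r) → ModSite.sect F U₁ := fun j => mres F (hV j) (t' j)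
  let s₁ : ULift.{u} (Fin n) → ModSite.sect F U₁ := fun i => mres F e₁ (s i)
  have hP₁ : IsPres F U₁ s₁ _ := hP.mono e₁
  have htb : ∀ j, gM F x hx₁ (t j) = b j := fun j => (germ_res x (hV j) hx₁ (t' j)).trans (ht' j)
  have hex : ∀ i j, ∃ (A : Opens X) (_ : A ≤ U₁) (hxA : x ∈ A) (a : O.obj.obj (op A)),
      gR x hxA a = b.repr (gM F x hx₁ (s₁ i)) j := fun i j => by
    obtain ⟨A, hxA, a, ha⟩ := exists_gR (O := O) x (b.repr (gM F x hx₁ (s₁ i)) j)
    exact ⟨A ⊓ U₁, inf_le_right, ⟨hxA, hx₁⟩, ores O inf_le_left a, by rw [gR_res]; exact ha⟩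
  choose A hA hxA a ha using hex
  choose B hB hxB c hc using fun j => hP₁.gen U₁ le_rfl (t j) x hx₁
  obtain ⟨U₂, hx₂, e₂, hB₂⟩ := exists_common_nhd x B hxB U₁ hx₁
  obtain ⟨U₃, hx₃, e₃, hA₃⟩ := exists_common_nhd x (fun p : _ × _ => A p.1 p.2) (fun p => hxA p.1 p.2) U₂ hx₂
  let a₃ : ULift.{u} (Fin n) → ULift.{u} (Fin r) → O.obj.obj (op U₃) := fun i j => ores O (hA₃ (i, j)) (a i j)
  let c₃ : ULift.{u} (Fin r) → ULift.{u} (Fin n) → O.obj.obj (op U₃) := fun j i =>
    ores O (e₃.trans (hB₂ j)) (c j i)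
  have e' : U₃ ≤ U₁ := e₃.trans e₂
  have hs : ∀ i, gM F x hx₃ (mres F e' (s₁ i)) = gM F x hx₃ (∑ j, a₃ i j • mres F e' (t j)) := fun i => by
    rw [gM_sum_smul]
    refine Eq.trans ((germ_res x e' hx₃ (s₁ i)).trans (b.sum_repr _).symm) (Finset.sum_congr rfl fun j _ => ?_)
    rw [gR_res, ha]
    exact congrArg (_ • ·) ((germ_res x e' hx₃ (t j)).trans (htb j)).symm
  have ht : ∀ j, mres F e' (t j) = ∑ i, c₃ j i • mres F e' (s₁ i) := fun j => by
    have h1 := congrArg (mres F (e₃.trans (hB₂ j))) (hc j)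
    rw [mres_sum_smul] at h1
    simp only [mres_mres] at h1
    simp only [mres_mres, c₃]
    exact h1.symm
  have hindep : ∀ d : ULift.{u} (Fin r) → ModSite.stalkRing (Opens.pointGrothendieckTopology x) O,
      ∑ j, d j • gM F x hx₃ (mres F e' (t j)) = 0 → d = 0 := fun d hd => by
    funext j
    refine Fintype.linearIndependent_iff.mp b.linearIndependent d ?_ j
    refine Eq.trans (Finset.sum_congr rfl fun j _ => congrArg (d j • ·) ?_) hd
    exact ((germ_res x e' hx₃ (t j)).trans (htb j)).symm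
  have hca : ∀ j, gM F x hx₃ (mres F e' (t j)) =
      ∑ l, gR x hx₃ (∑ i, c₃ j i * a₃ i l) • gM F x hx₃ (mres F e' (t l)) := fun j => by
    conv_lhs => rw [ht j, gM_sum_smul]
    simp only [hs, gM_smul, Finset.smul_sum, map_sum, map_mul, Finset.sum_smul, mul_smul]
    rw [Finset.sum_comm]
  have hone : ∀ j l, gR x hx₃ (∑ i, c₃ j i * a₃ i l) = gR x hx₃ (if j = l then 1 else 0) := fun j l => by
    refine sub_eq_zero.mp (congrFun (hindep (fun l => gR x hx₃ (∑ i, c₃ j i * a₃ i l) -
      gR x hx₃ (if j = l then 1 else 0)) ?_) l)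
    simp only [sub_smul, Finset.sum_sub_distrib, sub_eq_zero]
    refine (hca j).symm.trans ?_
    simp [apply_ite (gR x hx₃), ite_smul]
  let g₃ : ULift.{u} (Fin m) → ULift.{u} (Fin n) → O.obj.obj (op U₃) := fun k i =>
    ores O (e'.trans e₁) (g k i)
  have hga : ∀ k l, gR x hx₃ (∑ i, g₃ k i * a₃ i l) = gR x hx₃ 0 := fun k l => by
    rw [map_zero]
    refine congrFun (hindep (fun l => gR x hx₃ (∑ i, g₃ k i * a₃ i l)) ?_) l
    have h0 : ∑ i, g₃ k i • mres F e' (s₁ i) = 0 := by
      simp only [s₁, mres_mres, g₃]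
      rw [← mres_sum_smul, hP.rel0, mres_zero]
    have h1 := congrArg (gM F x hx₃) h0
    simp only [gM_smul, map_sum, map_zero, hs, Finset.smul_sum] at h1
    simp only [map_sum, map_mul, Finset.sum_smul, mul_smul]
    rw [Finset.sum_comm]
    exact h1
  obtain ⟨U₄, e₄, hx₄, h₄⟩ := exists_nhd_eq_of_gR x hx₃ (fun p : _ × _ => ∑ i, c₃ p.1 i * a₃ i p.2)
    (fun p => if p.1 = p.2 then 1 else 0) fun p => hone p.1 p.2
  obtain ⟨U₅, e₅, hx₅, h₅⟩ := exists_nhd_eq_of_gR x hx₄ (fun p : _ × _ => ores O e₄ (∑ i, g₃ p.1 i * a₃ i p.2))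
    (fun _ => 0) fun p => by rw [gR_res, hga, map_zero, map_zero]
  obtain ⟨U₆, e₆, hx₆, h₆⟩ := exists_nhd_eq_of_gM x hx₅ (fun i => mres F ((e₅.trans e₄).trans e') (s₁ i))
    (fun i => ∑ j, ores O (e₅.trans e₄) (a₃ i j) • mres F ((e₅.trans e₄).trans e') (t j)) fun i => by
      have h1 := hs i
      rw [← gM_res x (e₅.trans e₄) hx₅, ← gM_res x (e₅.trans e₄) hx₅, mres_mres, mres_sum_smul] at h1
      simp only [mres_mres] at h1
      exact h1
  have e : U₆ ≤ U₃ := (e₆.trans e₅).trans e₄
  have hs₆ : ∀ i, mres F (e.trans e') (s₁ i) = ∑ j, ores O e (a₃ i j) • mres F (e.trans e') (t j) := fun i => by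
    have h1 := h₆ i
    simp only [mres_sum_smul, mres_mres, ores_ores] at h1
    exact h1
  refine ⟨U₆, fun j => mres F (e.trans e') (t j), hx₆, fun W hW z y hy => ?_, fun W hW d hd => ?_⟩
  · obtain ⟨W', f, hyW', d, hd⟩ := hP₁.gen W (hW.trans (e.trans e')) z y hy
    refine ⟨W', f, hyW', fun j => ∑ i, d i * ores O ((f.trans hW).trans e) (a₃ i j), ?_⟩
    rw [← hd]
    simp only [Finset.sum_smul, mul_smul]
    rw [Finset.sum_comm]
    refine Finset.sum_congr rfl fun i _ => ?_
    rw [← Finset.smul_sum]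
    refine congrArg (d i • ·) ?_
    have h1 := congrArg (mres F (f.trans hW)) (hs₆ i)
    rw [mres_sum_smul] at h1
    simp only [mres_mres, ores_ores] at h1 ⊢
    exact h1.symm
  · simp only [mres_mres] at hd
    refine funext fun l => ring_eq_of_locally fun y hy => ?_
    have h1 : ∑ i, (∑ j, d j * ores O (hW.trans e) (c₃ j i)) • mres F (hW.trans (e.trans e')) (s₁ i) = 0 := by
      refine Eq.trans ?_ hd
      simp only [Finset.sum_smul, mul_smul]
      rw [Finset.sum_comm]
      refine Finset.sum_congr rfl fun j _ => ?_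
      rw [← Finset.smul_sum]
      refine congrArg (d j • ·) ?_
      have h2 := congrArg (mres F (hW.trans e)) (ht j)
      rw [mres_sum_smul] at h2
      simp only [mres_mres] at h2
      exact h2.symm
    obtain ⟨W', f, hyW', k, hk⟩ := hP₁.rel W (hW.trans (e.trans e')) _ h1 y hy
    refine ⟨W', f, hyW', ?_⟩
    have hk' : ∀ i, ∑ q, k q * ores O ((f.trans hW).trans e) (g₃ q i) =
        ∑ j, ores O f (d j) * ores O ((f.trans hW).trans e) (c₃ j i) := fun i => by
      have := hk i
      simp only [map_sum, map_mul, ores_ores] at this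
      simp only [g₃, ores_ores]
      exact this
    have h₄' : ∀ j, ∑ i, ores O ((f.trans hW).trans e) (c₃ j i) * ores O ((f.trans hW).trans e) (a₃ i l) =
        if j = l then 1 else 0 := fun j => by
      have := congrArg (ores O ((f.trans hW).trans (e₆.trans e₅))) (h₄ (j, l))
      simpa only [map_sum, map_mul, ores_ores, apply_ite, map_one, map_zero] using this
    have h₅' : ∀ q, ∑ i, ores O ((f.trans hW).trans e) (g₃ q i) * ores O ((f.trans hW).trans e) (a₃ i l) = 0 :=
      fun q => by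
      have := congrArg (ores O ((f.trans hW).trans e₆)) (h₅ (q, l))
      simpa only [map_sum, map_mul, ores_ores, map_zero] using this
    calc ores O f (d l) = ∑ j, ores O f (d j) * (if j = l then 1 else 0) := by simp
      _ = ∑ i, (∑ j, ores O f (d j) * ores O ((f.trans hW).trans e) (c₃ j i)) *
            ores O ((f.trans hW).trans e) (a₃ i l) := by
          simp only [← h₄', Finset.mul_sum, Finset.sum_mul, mul_assoc]
          exact Finset.sum_comm
      _ = ∑ q, k q * ∑ i, ores O ((f.trans hW).trans e) (g₃ q i) * ores O ((f.trans hW).trans e) (a₃ i l) := by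
          simp only [← hk', Finset.mul_sum, Finset.sum_mul, mul_assoc]
          exact Finset.sum_comm
      _ = ores O f 0 := by simp [h₅']

end Groth.Agent.RSpaceFT
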