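import Groth.Agent.RSpaceFT.Basis
import Groth.Agent.SiteBase.ModGroth
import Mathlib.CategoryTheory.Abelian.Exact
import Mathlib.Topology.Sheaves.SheafCondition.UniqueGluing

/-!
# Modules on a closed subspace with a locally surjective map of structure sheaves
-/

set_option backward.isDefEq.respectTransparency false
set_option backward.isDefEq.respectTransparency.types false
set_option linter.style.haveILetI false

universe u

open CategoryTheory CategoryTheory.Limits TopologicalSpace Opposite
open Groth.Agent.FModLib (epi_of_locally)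

noncomputable section

namespace Groth.Agent.RSpaceFT

theorem mres_bij {X : TopCat.{u}} {O : TopCat.Sheaf CommRingCat.{u} X} (F : ModSite.Mod O) {U V : Opens X}
    (e : V ≤ U) (e' : U ≤ V) : Function.Bijective (mres F e) := by
  obtain rfl : U = V := le_antisymm e' e
  exact ⟨fun a b h => by simpa only [mres_rfl] using h, fun b => ⟨b, mres_rfl F b⟩⟩

namespace ClosedPush

variable {Z X : TopCat.{u}} {i : Z ⟶ X} (hi : Topology.IsClosedEmbedding i)

/-- The largest open of `X` with the given trace on `Z`. -/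
def ext (V : Opens Z) : Opens X :=
  ⟨(i.hom '' (V : Set Z)ᶜ)ᶜ, (hi.isClosedMap _ V.2.isClosed_compl).isOpen_compl⟩

theorem mem_ext (V : Opens Z) {x : X} : x ∈ ext hi V ↔ ∀ z, i.hom z = x → z ∈ V :=
  ⟨fun h z hz => by_contra fun hzV => h ⟨z, hzV, hz⟩, fun h ⟨z, hzV, hz⟩ => hzV (h z hz)⟩

theorem map_ext_le (V : Opens Z) : (Opens.map i).obj (ext hi V) ≤ V :=
  fun z hz => (mem_ext hi V).mp hz z rfl

theorem le_map_ext (V : Opens Z) : V ≤ (Opens.map i).obj (ext hi V) :=
  fun _ hz => (mem_ext hi V).mpr fun _ hz' => hi.injective hz' ▸ hz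

theorem le_ext {W : Opens X} {V : Opens Z} (h : (Opens.map i).obj W ≤ V) : W ≤ ext hi V :=
  fun x hx => (mem_ext hi V).mpr fun z hz => h (show i.hom z ∈ W from hz.symm ▸ hx)

theorem ext_mono {V V' : Opens Z} (h : V' ≤ V) : ext hi V' ≤ ext hi V :=
  le_ext hi ((map_ext_le hi V').trans h)

variable {O_Z : TopCat.Sheaf CommRingCat.{u} Z} {O_X : TopCat.Sheaf CommRingCat.{u} X}
  (c : O_X ⟶ ((TopologicalSpace.Opens.map i).sheafPushforwardContinuous CommRingCat.{u}
      (Opens.grothendieckTopology X) (Opens.grothendieckTopology Z)).obj O_Z)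

/-- The structure map on sections. -/
abbrev cc (N : Opens X) : O_X.obj.obj (op N) →+* O_Z.obj.obj (op ((Opens.map i).obj N)) :=
  (c.hom.app (op N)).hom

theorem cc_res {N N' : Opens X} (e : N' ≤ N) (a : O_X.obj.obj (op N)) :
    cc c N' (ores O_X e a) = ores O_Z (show (Opens.map i).obj N' ≤ (Opens.map i).obj N from fun _ hz => e hz) (cc c N a) :=
  congr($(c.hom.naturality (homOfLE e).op).hom a)

variable [Sheaf.IsLocallySurjective c]

/-- Sections of the structure sheaf of the subspace lift near every point. -/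
theorem exists_lift {W : Opens X} (r : O_Z.obj.obj (op ((Opens.map i).obj W))) {x : X} (hx : x ∈ W) :
    ∃ (N : Opens X) (e : N ≤ W), x ∈ N ∧ ∃ a : O_X.obj.obj (op N), cc c N a = ores O_Z (fun _ hz => e hz) r := by
  obtain ⟨N, f, ⟨a, ha⟩, hxN⟩ := Presheaf.imageSieve_mem (Opens.grothendieckTopology X) c.hom (U := op W) r x hx
  exact ⟨N, f.le, hxN, a, ha⟩

/-- A lift on a neighbourhood of a given section over an open of the subspace. -/
theorem exists_lift' {V : Opens Z} (r : O_Z.obj.obj (op V)) {x : X} (hx : x ∈ ext hi V) :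
    ∃ (N : Opens X) (e : N ≤ ext hi V), x ∈ N ∧ ∃ a : O_X.obj.obj (op N),
      cc c N a = ores O_Z ((show (Opens.map i).obj N ≤ (Opens.map i).obj (ext hi V) from fun _ hz => e hz).trans
        (map_ext_le hi V)) r := by
  obtain ⟨N, e, hxN, a, ha⟩ := exists_lift c (ores O_Z (map_ext_le hi V) r) hx
  exact ⟨N, e, hxN, a, ha.trans (ores_ores _ _ r)⟩

local notation "φ" => ModSite.RMor.ofFlat (TopologicalSpace.Opens.map i) c

include hi in
theorem faithful : ((φ).push).Faithful :=
  ⟨fun {F G f g} h => SheafOfModules.hom_ext (PresheafOfModules.hom_ext fun V => ModuleCat.hom_ext (LinearMap.ext fun s => by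
    obtain ⟨s', rfl⟩ := (mres_bij F (le_map_ext hi V.unop) (map_ext_le hi V.unop)).2 s
    show f.val.app (op V.unop) (mres F _ s') = g.val.app (op V.unop) (mres F _ s')
    rw [mapp_res, mapp_res]
    exact congrArg (mres G _) (congrArg (fun k : (φ).push.obj F ⟶ (φ).push.obj G =>
      k.val.app (op (ext hi V.unop)) s') h)))⟩

include hi in
theorem full : ((φ).push).Full := by
  refine ⟨fun {F G} θ => ?_⟩
  let ψ : ∀ V : Opens Z, ModSite.sect F V → ModSite.sect G V := fun V s =>
    mres G (le_map_ext hi V) (θ.val.app (op (ext hi V)) (mres F (map_ext_le hi V) s))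
  have hθ : ∀ {W W' : Opens X} (e : W' ≤ W) (e' : (Opens.map i).obj W' ≤ (Opens.map i).obj W)
      (s : ModSite.sect F ((Opens.map i).obj W)),
      θ.val.app (op W') (mres F e' s) = mres G e' (θ.val.app (op W) s) := fun e e' s =>
    PresheafOfModules.naturality_apply θ.val (homOfLE e).op s
  have hadd : ∀ V (s s' : ModSite.sect F V), ψ V (s + s') = ψ V s + ψ V s' := fun V s s' => by
    simp only [ψ]
    refine (congrArg (fun z => mres G (le_map_ext hi V) (θ.val.app (op (ext hi V)) z)) (mres_add F _ s s')).trans ?_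
    exact (congrArg (mres G (le_map_ext hi V)) (map_add (θ.val.app (op (ext hi V))).hom _ _)).trans (mres_add G _ _ _)
  have hnat : ∀ {V V' : Opens Z} (e : V' ≤ V) (s : ModSite.sect F V), ψ V' (mres F e s) = mres G e (ψ V s) :=
    fun {V V'} e s => by
      have e' : (Opens.map i).obj (ext hi V') ≤ (Opens.map i).obj (ext hi V) := fun _ hz => ext_mono hi e hz
      simp only [ψ, mres_mres]
      refine Eq.trans (congrArg (fun z => mres G (le_map_ext hi V') (θ.val.app (op (ext hi V')) z))
        (mres_mres F (map_ext_le hi V) e' s).symm) ?_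
      rw [hθ (ext_mono hi e) e', mres_mres]
  have hsmul : ∀ V (r : O_Z.obj.obj (op V)) (s : ModSite.sect F V), ψ V (r • s) = r • ψ V s := fun V r s => by
    refine eq_of_locally G fun p hp => ?_
    obtain ⟨N, e, hpN, a, ha⟩ := exists_lift' hi c r (le_map_ext hi V hp)
    let eN : (Opens.map i).obj N ≤ (Opens.map i).obj (ext hi V) := fun _ hz => e hz
    refine ⟨(Opens.map i).obj N, eN.trans (map_ext_le hi V), hpN, ?_⟩
    simp only [ψ, mres_smul, mres_mres]
    refine ((hθ e eN _).symm).trans ?_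
    rw [mres_smul, mres_mres]
    erw [ores_ores]
    have h1 := map_smul (θ.val.app (op N)).hom a (show ModSite.sect ((φ).push.obj F) N from mres F (eN.trans (map_ext_le hi V)) s)
    refine Eq.trans ?_ (h1.trans ?_)
    · refine congrArg (θ.val.app (op N)) ?_
      show _ = (show O_Z.obj.obj (op ((Opens.map i).obj N)) from cc c N a) • mres F (eN.trans (map_ext_le hi V)) s
      rw [ha]
      rfl
    · show (show O_Z.obj.obj (op ((Opens.map i).obj N)) from cc c N a) •
          (show ModSite.sect G ((Opens.map i).obj N) from θ.val.app (op N) (mres F (eN.trans (map_ext_le hi V)) s)) = _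
      rw [ha]
      refine congrArg (_ • ·) ?_
      rw [← mres_mres F (map_ext_le hi V) eN s, hθ e eN]
  let θ' : F.val.presheaf ⟶ G.val.presheaf :=
    { app := fun V => AddCommGrpCat.ofHom (AddMonoidHom.mk' (ψ V.unop) (hadd V.unop))
      naturality := fun V V' f => AddCommGrpCat.ext fun s => hnat f.unop.le s }
  refine ⟨⟨PresheafOfModules.homMk θ' fun V r s => hsmul V.unop r s⟩, SheafOfModules.hom_ext
    (PresheafOfModules.hom_ext fun W => ModuleCat.hom_ext (LinearMap.ext fun s => ?_))⟩
  show ψ ((Opens.map i).obj W.unop) s = θ.val.app W s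
  have h1 := hθ (le_ext hi (le_refl ((Opens.map i).obj W.unop))) (le_map_ext hi _) (mres F (map_ext_le hi _) s)
  rw [mres_mres, mres_rfl] at h1
  exact h1.symm

include hi in
theorem preservesEpi : ((φ).push).PreservesEpimorphisms :=
  ⟨fun {F G} f _ => epi_of_preimage _ fun W s x hx => by
    by_cases hxr : ∃ z, i.hom z = x
    · obtain ⟨z, rfl⟩ := hxr
      obtain ⟨V, e, hzV, g, hg⟩ := exists_preimage f s (W := (Opens.map i).obj W) (x := z) hx
      have e' : (Opens.map i).obj (W ⊓ ext hi V) ≤ V := fun p hp => map_ext_le hi V hp.2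
      refine ⟨W ⊓ ext hi V, inf_le_left, ⟨hx, le_map_ext hi V hzV⟩, mres F e' g, ?_⟩
      refine (mapp_res F f e' g).trans ?_
      rw [hg, mres_mres]
      rfl
    · let N : Opens X := W ⊓ ext hi ⊥
      refine ⟨N, inf_le_left, ⟨hx, (mem_ext hi ⊥).mpr fun z hz => absurd ⟨z, hz⟩ hxr⟩, 0, ?_⟩
      exact eq_of_locally (F := G) fun p hp => absurd (map_ext_le hi ⊥ hp.2) id⟩

include hi in
theorem preservesFiniteColimits : PreservesFiniteColimits (φ).push := by
  haveI := preservesEpi hi c
  haveI : (φ).push.PreservesHomology := Functor.preservesHomology_of_preservesEpis_and_kernels _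
  exact Functor.preservesFiniteColimits_of_preservesHomology _

variable (G : ModSite.Mod O_X)

/-- `G` is killed by the kernel of the structure map. -/
abbrev Killed : Prop :=
  ∀ (U : Opens X) (a : (ModSite.ringSh O_X).obj.obj (op U)),
    ((φ).sharpR.hom.app (op U)).hom a = 0 → ∀ s : ModSite.sect G U, a • s = 0

variable {G} (hk : Killed c G)

include hk in
theorem smul_eq_of_cc {N : Opens X} {a a' : O_X.obj.obj (op N)} (h : cc c N a = cc c N a') (s : ModSite.sect G N) :
    a • s = a' • s :=
  sub_eq_zero.mp ((sub_smul a a' s).symm.trans (hk N (a - a')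
    (show cc c N (a - a') = 0 by rw [map_sub, h, sub_self]) s))

include hk in
theorem zero_of_empty {N : Opens X} (hN : ∀ z, i.hom z ∉ N) (s : ModSite.sect G N) : s = 0 := by
  have h1 : cc c N 1 = cc c N 0 := ring_eq_of_locally fun p hp => absurd hp (hN p)
  simpa using smul_eq_of_cc c hk h1 s

/-- The restriction property characterizing the product of a section of `O_Z` and one of `G`. -/
def IsProd (V : Opens Z) (r : O_Z.obj.obj (op V)) (s y : ModSite.sect G (ext hi V)) : Prop :=
  ∀ (N : Opens X) (e : N ≤ ext hi V) (a : O_X.obj.obj (op N)),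
    cc c N a = ores O_Z ((show (Opens.map i).obj N ≤ (Opens.map i).obj (ext hi V) from fun _ hz => e hz).trans
      (map_ext_le hi V)) r → mres G e y = a • mres G e s

include hk in
theorem exists_isProd (V : Opens Z) (r : O_Z.obj.obj (op V)) (s : ModSite.sect G (ext hi V)) :
    ∃ y, IsProd hi c V r s y := by
  choose N e hN a ha using fun x : (ext hi V : Opens X) => exists_lift' hi c r x.2
  let Gs : TopCat.Sheaf AddCommGrpCat.{u} X := ⟨G.val.presheaf, G.isSheaf⟩
  obtain ⟨y, hy, -⟩ := TopCat.Sheaf.existsUnique_gluing' Gs N (ext hi V) (fun x => homOfLE (e x))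
    (fun p hp => Opens.mem_iSup.mpr ⟨⟨p, hp⟩, hN ⟨p, hp⟩⟩) (fun x => a x • mres G (e x) s) fun x x' => by
      show mres G (inf_le_left : N x ⊓ N x' ≤ N x) _ = mres G inf_le_right _
      rw [mres_smul, mres_smul, mres_mres, mres_mres]
      exact smul_eq_of_cc c hk (by rw [cc_res, cc_res, ha, ha, ores_ores, ores_ores]) _
  refine ⟨y, fun N' e' a' ha' => eq_of_locally G fun p hp => ?_⟩
  refine ⟨N' ⊓ N ⟨p, e' hp⟩, inf_le_left, ⟨hp, hN _⟩, ?_⟩
  have h1 := congrArg (mres G (inf_le_right : N' ⊓ N ⟨p, e' hp⟩ ≤ N ⟨p, e' hp⟩))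
    (show mres G (e ⟨p, e' hp⟩) y = a ⟨p, e' hp⟩ • mres G (e ⟨p, e' hp⟩) s from hy ⟨p, e' hp⟩)
  rw [mres_smul, mres_mres, mres_mres] at h1
  rw [mres_smul, mres_mres, mres_mres]
  exact h1.trans (smul_eq_of_cc c hk (by rw [cc_res, cc_res, ha, ha', ores_ores, ores_ores]) _)

/-- The product. -/
def prodS (V : Opens Z) (r : O_Z.obj.obj (op V)) (s : ModSite.sect G (ext hi V)) : ModSite.sect G (ext hi V) :=
  (exists_isProd hi c hk V r s).choose

theorem prodS_spec (V : Opens Z) (r : O_Z.obj.obj (op V)) (s : ModSite.sect G (ext hi V)) :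
    IsProd hi c V r s (prodS hi c hk V r s) :=
  (exists_isProd hi c hk V r s).choose_spec

include hk in
theorem isProd_unique {V : Opens Z} {r : O_Z.obj.obj (op V)} {s y : ModSite.sect G (ext hi V)}
    (h : ∀ x ∈ ext hi V, ∃ (N : Opens X) (e : N ≤ ext hi V), x ∈ N ∧ ∃ a : O_X.obj.obj (op N),
      cc c N a = ores O_Z ((show (Opens.map i).obj N ≤ (Opens.map i).obj (ext hi V) from fun _ hz => e hz).trans
        (map_ext_le hi V)) r ∧ mres G e y = a • mres G e s) : prodS hi c hk V r s = y :=
  eq_of_locally G fun x hx => by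
    obtain ⟨N, e, hxN, a, ha, hy⟩ := h x hx
    exact ⟨N, e, hxN, (prodS_spec hi c hk V r s N e a ha).trans hy.symm⟩

/-- The module structure on the sections over the extended opens. -/
@[implicit_reducible] def moduleExt (V : Opens Z) : Module (O_Z.obj.obj (op V)) (ModSite.sect G (ext hi V)) where
  smul r s := prodS hi c hk V r s
  one_smul s := isProd_unique hi c hk fun x hx =>
    ⟨ext hi V, le_rfl, hx, 1, by rw [map_one, map_one], by rw [one_smul]⟩
  mul_smul r r' s := isProd_unique hi c hk fun x hx => by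
    obtain ⟨N₁, e₁, hx₁, a, ha⟩ := exists_lift' hi c r hx
    obtain ⟨N₂, e₂, hx₂, a', ha'⟩ := exists_lift' hi c r' hx
    refine ⟨N₁ ⊓ N₂, inf_le_left.trans e₁, ⟨hx₁, hx₂⟩, ores O_X inf_le_left a * ores O_X inf_le_right a', ?_, ?_⟩
    · rw [map_mul, map_mul, cc_res, cc_res, ha, ha', ores_ores, ores_ores]
    · show mres G _ (prodS hi c hk V r (prodS hi c hk V r' s)) = _
      rw [prodS_spec hi c hk V r _ _ _ (ores O_X inf_le_left a) (by rw [cc_res, ha, ores_ores]),
        prodS_spec hi c hk V r' _ _ _ (ores O_X inf_le_right a') (by rw [cc_res, ha', ores_ores]), mul_smul]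
  smul_zero r := isProd_unique hi c hk fun x hx => by
    obtain ⟨N, e, hxN, a, ha⟩ := exists_lift' hi c r hx
    exact ⟨N, e, hxN, a, ha, by rw [mres_zero, smul_zero]⟩
  smul_add r s s' := isProd_unique hi c hk fun x hx => by
    obtain ⟨N, e, hxN, a, ha⟩ := exists_lift' hi c r hx
    refine ⟨N, e, hxN, a, ha, ?_⟩
    show mres G e (prodS hi c hk V r s + prodS hi c hk V r s') = _
    rw [mres_add, mres_add, prodS_spec hi c hk V r s N e a ha, prodS_spec hi c hk V r s' N e a ha, smul_add]
  add_smul r r' s := isProd_unique hi c hk fun x hx => by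
    obtain ⟨N₁, e₁, hx₁, a, ha⟩ := exists_lift' hi c r hx
    obtain ⟨N₂, e₂, hx₂, a', ha'⟩ := exists_lift' hi c r' hx
    refine ⟨N₁ ⊓ N₂, inf_le_left.trans e₁, ⟨hx₁, hx₂⟩, ores O_X inf_le_left a + ores O_X inf_le_right a', ?_, ?_⟩
    · rw [map_add, map_add, cc_res, cc_res, ha, ha', ores_ores, ores_ores]
    · show mres G _ (prodS hi c hk V r s + prodS hi c hk V r' s) = _
      rw [mres_add, prodS_spec hi c hk V r _ _ _ (ores O_X inf_le_left a) (by rw [cc_res, ha, ores_ores]),
        prodS_spec hi c hk V r' _ _ _ (ores O_X inf_le_right a') (by rw [cc_res, ha', ores_ores]), add_smul]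
  zero_smul s := isProd_unique hi c hk fun x hx =>
    ⟨ext hi V, le_rfl, hx, 0, by rw [map_zero, map_zero], by rw [mres_zero, zero_smul]⟩

variable (G) in
/-- The abelian presheaf `V ↦ G(ext V)`. -/
def extPre : (Opens Z)ᵒᵖ ⥤ AddCommGrpCat.{u} :=
  ({ obj := fun V => ext hi V, map := fun f => homOfLE (ext_mono hi f.le) } : Opens Z ⥤ Opens X).op ⋙ G.val.presheaf

include hk in
theorem extPre_isSheaf : TopCat.Presheaf.IsSheaf (extPre hi G) := by
  rw [TopCat.Presheaf.isSheaf_iff_isSheafUniqueGluing]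
  intro ι U sf hsf
  let Gs : TopCat.Sheaf AddCommGrpCat.{u} X := ⟨G.val.presheaf, G.isSheaf⟩
  let U' : Option ι → Opens X := fun o => o.elim (ext hi ⊥) fun a => ext hi (U a)
  have hU' : ∀ o, U' o ≤ ext hi (iSup U) := fun o => by
    cases o with
    | none => exact ext_mono hi bot_le
    | some a => exact ext_mono hi (le_iSup U a)
  have hcov : ext hi (iSup U) ≤ iSup U' := fun x hx => by
    by_cases hxr : ∃ z, i.hom z = x
    · obtain ⟨z, rfl⟩ := hxr
      obtain ⟨a, ha⟩ := Opens.mem_iSup.mp ((mem_ext hi _).mp hx z rfl)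
      exact Opens.mem_iSup.mpr ⟨some a, le_map_ext hi _ ha⟩
    · exact Opens.mem_iSup.mpr ⟨none, (mem_ext hi ⊥).mpr fun z hz => absurd ⟨z, hz⟩ hxr⟩
  let sf' : ∀ o, ModSite.sect G (U' o) := fun o => match o with
    | none => 0
    | some a => sf a
  obtain ⟨y, hy, hyu⟩ := TopCat.Sheaf.existsUnique_gluing' Gs U' (ext hi (iSup U)) (fun o => homOfLE (hU' o)) hcov sf'
    (fun o o' => by
      show mres G (inf_le_left : U' o ⊓ U' o' ≤ U' o) (sf' o) = mres G inf_le_right (sf' o')
      match o, o' with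
      | none, _ => refine sub_eq_zero.mp (zero_of_empty c hk ?_ _); exact (fun z hz => map_ext_le hi ⊥ hz.1)
      | some a, none => refine sub_eq_zero.mp (zero_of_empty c hk ?_ _); exact (fun z hz => map_ext_le hi ⊥ hz.2)
      | some a, some a' =>
        have e : ext hi (U a) ⊓ ext hi (U a') ≤ ext hi (U a ⊓ U a') := le_ext hi fun z hz =>
          ⟨map_ext_le hi _ hz.1, map_ext_le hi _ hz.2⟩
        have h1 : mres G (ext_mono hi inf_le_left) (sf a) = mres G (ext_mono hi inf_le_right) (sf a') := hsf a a'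
        have h2 := congrArg (mres G e) h1
        rw [mres_mres, mres_mres] at h2
        exact h2)
  refine ⟨y, fun a => hy (some a), fun y' hy' => hyu y' fun o => ?_⟩
  cases o with
  | none => exact zero_of_empty c hk (fun z hz => map_ext_le hi ⊥ hz) _
  | some a => exact hy' a

/-- The module on `Z`. -/
def extMod : ModSite.Mod O_Z :=
  letI : ∀ V : (Opens Z)ᵒᵖ, Module ((ModSite.ringSh O_Z).obj.obj V) ((extPre hi G).obj V) := fun V => moduleExt hi c hk V.unop
  { val := PresheafOfModules.ofPresheaf (R := (ModSite.ringSh O_Z).obj) (extPre hi G) (fun V V' f r s => by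
      refine Eq.symm (isProd_unique hi c hk fun x hx => ?_)
      obtain ⟨N, e, hxN, a, ha⟩ := exists_lift' hi c r (ext_mono hi f.unop.le hx)
      refine ⟨N ⊓ ext hi V'.unop, inf_le_right, ⟨hxN, hx⟩, ores O_X inf_le_left a, ?_, ?_⟩
      · rw [cc_res, ha, ores_ores]
        exact (ores_ores f.unop.le _ r).symm
      · show mres G _ (mres G (ext_mono hi f.unop.le) (prodS hi c hk V.unop r s)) =
          _ • mres G _ (mres G (ext_mono hi f.unop.le) s)
        rw [mres_mres, mres_mres,
          prodS_spec hi c hk V.unop r s (N ⊓ ext hi V'.unop) (inf_le_left.trans e) (ores O_X inf_le_left a) (by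
            rw [cc_res, ha, ores_ores])])
    isSheaf := extPre_isSheaf hi c hk }

include hi hk in
theorem mem_essImage : (φ).push.essImage G := by
  let F := extMod hi c hk
  have hW : ∀ W : Opens X, W ≤ ext hi ((Opens.map i).obj W) := fun W => le_ext hi le_rfl
  let θ : ((φ).push.obj F).val.presheaf ⟶ G.val.presheaf :=
    { app := fun W => AddCommGrpCat.ofHom (AddMonoidHom.mk'
        (fun s : ModSite.sect G (ext hi ((Opens.map i).obj W.unop)) => mres G (hW W.unop) s)
        fun (s s' : ModSite.sect G (ext hi ((Opens.map i).obj W.unop))) => mres_add G _ s s')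
      naturality := fun W W' f => AddCommGrpCat.ext fun s => by
        show mres G (hW W'.unop) (mres G (ext_mono hi fun _ hz => f.unop.le hz) s) = mres G f.unop.le (mres G (hW W.unop) s)
        rw [mres_mres, mres_mres] }
  let Θ : (φ).push.obj F ⟶ G := ⟨PresheafOfModules.homMk θ fun W r s => by
    show mres G (hW W.unop) (prodS hi c hk _ (cc c W.unop r) s) =
      (show O_X.obj.obj (op W.unop) from r) • mres G (hW W.unop) s
    exact prodS_spec hi c hk _ (cc c W.unop r) s W.unop (hW W.unop) r
      (congr($(O_Z.obj.map_id _).hom (cc c W.unop r))).symm⟩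
  haveI : Mono Θ := mono_of_sect_injective Θ fun W => (injective_iff_map_eq_zero _).mpr fun s hs => by
    change ModSite.sect G (ext hi ((Opens.map i).obj W)) at s
    change mres G (hW W) s = 0 at hs
    refine eq_of_locally G fun x hx => ?_
    by_cases hxr : ∃ z, i.hom z = x
    · obtain ⟨z, rfl⟩ := hxr
      exact ⟨W, hW W, (mem_ext hi _).mp hx z rfl, hs.trans (mres_zero (hW W)).symm⟩
    · let N : Opens X := ext hi ((Opens.map i).obj W) ⊓ ext hi ⊥
      exact ⟨N, inf_le_left, ⟨hx, (mem_ext hi ⊥).mpr fun z hz => absurd ⟨z, hz⟩ hxr⟩,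
        (zero_of_empty c hk (N := N) (fun z hz => map_ext_le hi ⊥ hz.2) _).trans (mres_zero _).symm⟩
  haveI : Epi Θ := epi_of_preimage _ fun W s x hx => by
    let Gs : TopCat.Sheaf AddCommGrpCat.{u} X := ⟨G.val.presheaf, G.isSheaf⟩
    let W' := ext hi ((Opens.map i).obj W)
    let U' : ULift.{u} Bool → Opens X := fun b => if b.down then W else W' ⊓ ext hi ⊥
    obtain ⟨y, hy, -⟩ := TopCat.Sheaf.existsUnique_gluing' Gs U' W'
      (fun b => homOfLE (by
        obtain ⟨b⟩ := b
        cases b
        · exact inf_le_left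
        · exact hW W))
      (fun p hp => by
        by_cases hpr : ∃ z, i.hom z = p
        · obtain ⟨z, rfl⟩ := hpr
          exact Opens.mem_iSup.mpr ⟨⟨true⟩, (mem_ext hi _).mp hp z rfl⟩
        · exact Opens.mem_iSup.mpr ⟨⟨false⟩, hp, (mem_ext hi ⊥).mpr fun z hz => absurd ⟨z, hz⟩ hpr⟩)
      (fun b => match b with
        | ⟨true⟩ => s
        | ⟨false⟩ => (0 : ModSite.sect G (W' ⊓ ext hi ⊥))) fun b b' => by
          match b, b' with
          | ⟨true⟩, ⟨true⟩ => rfl
          | ⟨false⟩, _ => refine sub_eq_zero.mp (zero_of_empty c hk ?_ _); exact (fun z hz => map_ext_le hi ⊥ hz.1.2)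
          | ⟨true⟩, ⟨false⟩ => refine sub_eq_zero.mp (zero_of_empty c hk ?_ _); exact (fun z hz => map_ext_le hi ⊥ hz.2.2)
    exact ⟨W, le_rfl, hx, y, (hy ⟨true⟩).trans (mres_rfl G s).symm⟩
  haveI : IsIso Θ := isIso_of_mono_of_epi Θ
  exact ⟨F, ⟨asIso Θ⟩⟩

omit [Sheaf.IsLocallySurjective c] in
/-- Direct images are killed by the kernel of the structure map. -/
theorem killed_of_essImage (hG : (φ).push.essImage G) : Killed c G := by
  obtain ⟨F, ⟨e⟩⟩ := hG
  intro U a ha s
  have h1 : a • (show ModSite.sect ((φ).push.obj F) U from e.inv.val.app (op U) s) = 0 := by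
    show (show O_Z.obj.obj (op ((Opens.map i).obj U)) from cc c U a) •
      (show ModSite.sect F ((Opens.map i).obj U) from e.inv.val.app (op U) s) = 0
    rw [show cc c U a = 0 from ha, zero_smul]
  have h2 := congrArg (e.hom.val.app (op U)) h1
  rw [map_zero] at h2
  refine Eq.trans ?_ h2
  refine Eq.trans ?_ (map_smul (e.hom.val.app (op U)).hom a _).symm
  exact congrArg (fun z => a • z) (congrArg (fun g : G ⟶ G => g.val.app (op U) s) e.inv_hom_id).symm

end ClosedPush

end Groth.Agent.RSpaceFT
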