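import Groth.Agent.FModLib.Present
import Groth.Agent.H9Misc.SupportsCore
import Groth.Agent.SiteBase.ModColim

/-!
# Concrete presentations of modules on a ringed space

A copy, with a small import closure, of the general part of `Groth.Agent.FModLib.{Pres,Abel,Abel2}`.
-/

set_option backward.isDefEq.respectTransparency false
set_option backward.isDefEq.respectTransparency.types false
set_option linter.style.haveILetI false

universe u

open CategoryTheory CategoryTheory.Limits TopologicalSpace Opposite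
open Groth.Agent.FModLib (homOf homOf_basic homOf_sum epi_of_locally)

noncomputable section

namespace Groth.Agent.RSpaceFT
section presentations

variable {X : TopCat.{u}} {O : TopCat.Sheaf CommRingCat.{u} X}

/-- Restriction of sections of a module. -/
def mres (F : ModSite.Mod O) {U V : Opens X} (e : V ≤ U) (x : ModSite.sect F U) : ModSite.sect F V :=
  F.val.map (homOfLE e).op x

/-- Restriction of functions. -/
def ores (O : TopCat.Sheaf CommRingCat.{u} X) {U V : Opens X} (e : V ≤ U) :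
    O.obj.obj (op U) →+* O.obj.obj (op V) :=
  (O.obj.map (homOfLE e).op).hom

variable (F : ModSite.Mod O)

theorem ores_ores {U V W : Opens X} (e : V ≤ U) (e' : W ≤ V) (r : O.obj.obj (op U)) :
    ores O e' (ores O e r) = ores O (e'.trans e) r :=
  (ConcreteCategory.congr_hom (O.obj.map_comp (homOfLE e).op (homOfLE e').op) r).symm

theorem mres_mres {U V W : Opens X} (e : V ≤ U) (e' : W ≤ V) (x : ModSite.sect F U) :
    mres F e' (mres F e x) = mres F (e'.trans e) x :=
  (ConcreteCategory.congr_hom (F.val.presheaf.map_comp (homOfLE e).op (homOfLE e').op) x).symm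

theorem mres_rfl {U : Opens X} (x : ModSite.sect F U) : mres F le_rfl x = x :=
  ConcreteCategory.congr_hom (F.val.presheaf.map_id (op U)) x

theorem mres_add {U V : Opens X} (e : V ≤ U) (x y : ModSite.sect F U) :
    mres F e (x + y) = mres F e x + mres F e y :=
  map_add (F.val.map (homOfLE e).op).hom x y

theorem mres_smul {U V : Opens X} (e : V ≤ U) (r : O.obj.obj (op U)) (x : ModSite.sect F U) :
    mres F e (r • x) = ores O e r • mres F e x :=
  PresheafOfModules.map_smul (R := (ModSite.ringSh O).obj) _ (homOfLE e).op r x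

theorem mres_sum_smul {ι : Type*} [Fintype ι] {U V : Opens X} (e : V ≤ U) (c : ι → O.obj.obj (op U))
    (t : ι → ModSite.sect F U) :
    mres F e (∑ i, c i • t i) = ∑ i, ores O e (c i) • mres F e (t i) :=
  (map_sum (F.val.map (homOfLE e).op).hom _ _).trans (Finset.sum_congr rfl fun i _ => mres_smul F e (c i) (t i))

theorem mapp_res {G : ModSite.Mod O} (α : F ⟶ G) {U V : Opens X} (e : V ≤ U) (x : ModSite.sect F U) :
    α.val.app (op V) (mres F e x) = mres G e (α.val.app (op U) x) :=
  PresheafOfModules.naturality_apply α.val (homOfLE e).op x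

theorem mapp_sum_smul {G : ModSite.Mod O} (α : F ⟶ G) {ι : Type*} [Fintype ι] {U : Opens X}
    (c : ι → O.obj.obj (op U)) (t : ι → ModSite.sect F U) :
    α.val.app (op U) (∑ i, c i • t i) = ∑ i, c i • (show ModSite.sect G U from α.val.app (op U) (t i)) :=
  (map_sum (α.val.app (op U)).hom _ _).trans (Finset.sum_congr rfl fun i _ => map_smul (α.val.app (op U)).hom (c i) (t i))

theorem eq_of_locally {U : Opens X} {x y : ModSite.sect F U}
    (h : ∀ p ∈ U, ∃ (V : Opens X) (e : V ≤ U), p ∈ V ∧ mres F e x = mres F e y) : x = y := by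
  choose V e hp hV using h
  refine TopCat.Sheaf.eq_of_locally_eq' (⟨F.val.presheaf, F.isSheaf⟩ : TopCat.Sheaf AddCommGrpCat.{u} X)
    (fun p : U => V p.1 p.2) U (fun p => homOfLE (e p.1 p.2))
    (fun p hpU => Opens.mem_iSup.mpr ⟨⟨p, hpU⟩, hp p hpU⟩) x y fun p => hV p.1 p.2

/-- Finitely many sections over `U` with relations presenting `F` near every point of `U`. -/
structure IsPres (U : Opens X) {n m : ℕ} (t : ULift.{u} (Fin n) → ModSite.sect F U)
    (g : ULift.{u} (Fin m) → ULift.{u} (Fin n) → O.obj.obj (op U)) : Prop where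
  rel0 : ∀ j, ∑ i, g j i • t i = 0
  gen : ∀ (W : Opens X) (hW : W ≤ U) (s : ModSite.sect F W), ∀ x ∈ W,
    ∃ (V : Opens X) (e : V ≤ W), x ∈ V ∧ ∃ c : ULift.{u} (Fin n) → O.obj.obj (op V),
      ∑ i, c i • mres F (e.trans hW) (t i) = mres F e s
  rel : ∀ (W : Opens X) (hW : W ≤ U) (c : ULift.{u} (Fin n) → O.obj.obj (op W)),
    ∑ i, c i • mres F hW (t i) = 0 → ∀ x ∈ W,
      ∃ (V : Opens X) (e : V ≤ W), x ∈ V ∧ ∃ d : ULift.{u} (Fin m) → O.obj.obj (op V),
        ∀ i, ∑ j, d j * ores O (e.trans hW) (g j i) = ores O e (c i)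

variable {F} {U : Opens X} {n m : ℕ} {t : ULift.{u} (Fin n) → ModSite.sect F U}
  {g : ULift.{u} (Fin m) → ULift.{u} (Fin n) → O.obj.obj (op U)}

theorem IsPres.mono (hP : IsPres F U t g) {U' : Opens X} (e : U' ≤ U) :
    IsPres F U' (fun i => mres F e (t i)) (fun j i => ores O e (g j i)) where
  rel0 j := by
    rw [← mres_sum_smul, hP.rel0]
    exact map_zero (F.val.map (homOfLE e).op).hom
  gen W hW s x hx := by
    obtain ⟨V, e', hxV, c, hc⟩ := hP.gen W (hW.trans e) s x hx
    exact ⟨V, e', hxV, c, by simp only [mres_mres]; exact hc⟩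
  rel W hW c hc x hx := by
    obtain ⟨V, e', hxV, d, hd⟩ := hP.rel W (hW.trans e) c (by simpa only [mres_mres] using hc) x hx
    exact ⟨V, e', hxV, d, fun i => by simp only [ores_ores]; exact hd i⟩

/-- The sieve over `U` of the opens contained in some member of a family. -/
theorem sieve_of_local {W : Over U} (P : Opens X → Prop)
    (h : ∀ x ∈ W.left, ∃ (V : Opens X), V ≤ W.left ∧ x ∈ V ∧ P V) :
    ∃ S ∈ (Opens.grothendieckTopology X).over U W, ∀ ⦃W' : Over U⦄ (a : W' ⟶ W), S a →
      ∃ V, P V ∧ W'.left ≤ V ∧ V ≤ W.left := by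
  refine ⟨{ arrows := fun W' _ => ∃ V, P V ∧ W'.left ≤ V ∧ V ≤ W.left
            downward_closed := fun ⟨V, hP, h1, h2⟩ a => ⟨V, hP, a.left.le.trans h1, h2⟩ },
    ?_, fun _ _ h => h⟩
  rw [GrothendieckTopology.mem_over_iff]
  intro x hx
  obtain ⟨V, hVW, hxV, hPV⟩ := h x hx
  exact ⟨V, homOfLE hVW, (Sieve.overEquiv_iff _ _).mpr ⟨V, hPV, le_rfl, hVW⟩, hxV⟩

theorem sum_kill {G : ModSite.Mod O} {U V : Opens X} (e : V ≤ U) {n m : ℕ}
    {g : ULift.{u} (Fin m) → ULift.{u} (Fin n) → O.obj.obj (op U)} {s : ULift.{u} (Fin n) → ModSite.sect G U}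
    (d : ULift.{u} (Fin m) → O.obj.obj (op V)) (hs : ∀ j, ∑ i, g j i • s i = 0) :
    ∑ i, (∑ j, d j * ores O e (g j i)) • mres G e (s i) = 0 := by
  simp only [Finset.sum_smul]
  rw [Finset.sum_comm]
  refine Finset.sum_eq_zero fun j _ => ?_
  simp only [mul_smul, ← Finset.smul_sum, ← mres_sum_smul, hs]
  rw [show mres G e (0 : ModSite.sect G U) = 0 from map_zero (G.val.map (homOfLE e).op).hom, smul_zero]

/-- The map out of a free module on `U` given by sections over `U`. -/
def homU (F : ModSite.Mod O) {U : Opens X} {n : ℕ} (t : ULift.{u} (Fin n) → ModSite.sect F U) :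
    SheafOfModules.free (R := ModSite.ringSh (O.over U)) (ULift.{u} (Fin n)) ⟶ (ModSite.restr O U).obj F :=
  homOf (C := Over U) (O := O.over U) (T := Over.mk (𝟙 U)) (G := (ModSite.restr O U).obj F) Over.mkIdTerminal t

theorem homU_sum (F : ModSite.Mod O) {U : Opens X} {n : ℕ} (t : ULift.{u} (Fin n) → ModSite.sect F U) (W : Over U)
    (c : ULift.{u} (Fin n) → (O.over U).obj.obj (op W)) :
    (homU F t).val.app (op W) (∑ k, c k • SiteBase.basicSec (O.over U) W n k) =
      ∑ k, (show O.obj.obj (op W.left) from c k) • mres F W.hom.le (t k) :=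
  homOf_sum (C := Over U) (O := O.over U) (T := Over.mk (𝟙 U)) (G := (ModSite.restr O U).obj F) Over.mkIdTerminal t W c

theorem homU_basic (F : ModSite.Mod O) {U : Opens X} {n : ℕ} (t : ULift.{u} (Fin n) → ModSite.sect F U)
    (k : ULift.{u} (Fin n)) :
    (homU F t).val.app (op (Over.mk (𝟙 U))) (SiteBase.basicSec (O.over U) (Over.mk (𝟙 U)) n k) = t k :=
  (homOf_basic (C := Over U) (O := O.over U) (T := Over.mk (𝟙 U)) (G := (ModSite.restr O U).obj F)
    Over.mkIdTerminal t _ k).trans (mres_rfl F (t k))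

theorem IsPres.hgen (hP : IsPres F U t g) (W : Over U) (s : ModSite.sect ((ModSite.restr O U).obj F) W) :
    ∃ S ∈ (Opens.grothendieckTopology X).over U W, ∀ ⦃W' : Over U⦄ (a : W' ⟶ W), S a →
      ∃ c : ULift.{u} (Fin n) → (O.over U).obj.obj (op W'),
        ∑ i, (show O.obj.obj (op W'.left) from c i) • mres F W'.hom.le (t i) = mres F a.left.le s := by
  obtain ⟨S, hS, h⟩ := sieve_of_local (W := W) (fun V => ∃ (e : V ≤ W.left),
    ∃ c : ULift.{u} (Fin n) → O.obj.obj (op V), ∑ i, c i • mres F (e.trans W.hom.le) (t i) = mres F e s)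
    (fun x hx => by
      obtain ⟨V, e, hxV, hc⟩ := hP.gen W.left W.hom.le s x hx
      exact ⟨V, e, hxV, e, hc⟩)
  refine ⟨S, hS, fun W' a ha => ?_⟩
  obtain ⟨V, ⟨e, c, hc⟩, h1, -⟩ := h a ha
  refine ⟨fun i => ores O h1 (c i), ?_⟩
  have := congrArg (mres F h1) hc
  rw [mres_sum_smul] at this
  simp only [mres_mres] at this
  exact this

theorem IsPres.hrel (hP : IsPres F U t g) (W : Over U) (c : ULift.{u} (Fin n) → (O.over U).obj.obj (op W))
    (hc : ∑ i, (show O.obj.obj (op W.left) from c i) • mres F W.hom.le (t i) = 0) :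
    ∃ S ∈ (Opens.grothendieckTopology X).over U W, ∀ ⦃W' : Over U⦄ (a : W' ⟶ W), S a →
      ∃ d : ULift.{u} (Fin m) → O.obj.obj (op W'.left),
        ∀ i, ∑ j, d j * ores O W'.hom.le (g j i) = ores O a.left.le (c i) := by
  obtain ⟨S, hS, h⟩ := sieve_of_local (W := W) (fun V => ∃ (e : V ≤ W.left),
    ∃ d : ULift.{u} (Fin m) → O.obj.obj (op V),
      ∀ i, ∑ j, d j * ores O (e.trans W.hom.le) (g j i) = ores O e (c i))
    (fun x hx => by
      obtain ⟨V, e, hxV, hd⟩ := hP.rel W.left W.hom.le c hc x hx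
      exact ⟨V, e, hxV, e, hd⟩)
  refine ⟨S, hS, fun W' a ha => ?_⟩
  obtain ⟨V, ⟨e, d, hd⟩, h1, -⟩ := h a ha
  refine ⟨fun j => ores O h1 (d j), fun i => ?_⟩
  have := congrArg (ores O h1) (hd i)
  simp only [map_sum, map_mul, ores_ores] at this
  exact this

theorem IsPres.epi_homU (hP : IsPres F U t g) : Epi (homU F t) := by
  refine epi_of_locally (C := Over U) (O := O.over U) (homU F t) fun W s => ?_
  obtain ⟨S, hS, h⟩ := hP.hgen W s
  refine ⟨S, hS, fun W' a ha => ?_⟩
  obtain ⟨c, hc⟩ := h a ha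
  exact ⟨_, (homU_sum F t W' c).trans hc⟩

theorem IsPres.exists_presentation (hP : IsPres F U t g) : ∃ P : (F.over U).Presentation, P.IsFinite :=
  FModLib.exists_presentation (C := Over U) (O := O.over U) (T := Over.mk (𝟙 U))
    (G := (ModSite.restr O U).obj F) Over.mkIdTerminal t g hP.hgen hP.rel0 hP.hrel

/-- Sections killed by a map come from the kernel. -/
theorem exists_kernel_lift {C : Type u} [SmallCategory C] {J : GrothendieckTopology C} {O : Sheaf J CommRingCat.{u}}
    {M N : ModSite.Mod O} (π : M ⟶ N) (W : C) (z : ModSite.sect M W) (hz : π.val.app (op W) z = 0) :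
    ∃ k : ModSite.sect (kernel π) W, (kernel.ι π).val.app (op W) k = z := by
  let E := SheafOfModules.evaluation (ModSite.ringSh O) (op W)
  haveI : PreservesLimit (parallelPair π 0) E := inferInstance
  haveI : E.PreservesZeroMorphisms := ⟨fun _ _ => rfl⟩
  let hl := isLimitForkMapOfIsLimit' E (kernel.condition π) (kernelIsKernel π)
  let l : ModuleCat.of _ ((ModSite.ringSh O).obj.obj (op W)) ⟶ E.obj M :=
    ModuleCat.ofHom (LinearMap.toSpanSingleton _ _ z)
  have hl0 : l ≫ E.map π = 0 :=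
    ModuleCat.hom_ext (LinearMap.ext_ring (by
      show π.val.app (op W) ((1 : (ModSite.ringSh O).obj.obj (op W)) • z) = 0
      rw [one_smul, hz]))
  refine ⟨(KernelFork.IsLimit.lift' hl l hl0).1 (1 : (ModSite.ringSh O).obj.obj (op W)), ?_⟩
  exact (congrArg (fun f => f.hom (1 : (ModSite.ringSh O).obj.obj (op W)))
    (KernelFork.IsLimit.lift' hl l hl0).2).trans (one_smul _ z)

section

open SiteBase

variable {C : Type u} [SmallCategory C] {J : GrothendieckTopology C} {O : Sheaf J CommRingCat.{u}}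
  {T : C} (hT : IsTerminal T) {G : ModSite.Mod O} {n : ℕ}

theorem eq_homOf (π : SheafOfModules.free (R := ModSite.ringSh O) (ULift.{u} (Fin n)) ⟶ G) :
    π = homOf hT (fun i => π.val.app (op T) (basicSec O T n i)) := by
  refine free_hom_ext_term hT fun i => ?_
  rw [homOf_basic]
  conv_rhs => rw [show hT.from T = 𝟙 T from hT.hom_ext _ _, op_id]
  exact congr($(G.val.presheaf.map_id (op T)) (π.val.app (op T) (basicSec O T n i))).symm

theorem toCoords_sum_basicSec (W : C) (c : ULift.{u} (Fin n) → O.obj.obj (op W)) :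
    toCoords n W (∑ k, c k • basicSec O W n k) = c := by
  funext i
  simp only [map_sum, map_smul, toCoords_basicSec, Finset.sum_apply, Pi.smul_apply]
  rw [Finset.sum_eq_single i (fun k _ hk => by rw [Pi.single_eq_of_ne (Ne.symm hk)]; exact mul_zero (c k))
    (fun hn => absurd (Finset.mem_univ i) hn), Pi.single_eq_same]
  exact mul_one _

theorem homOf_coords {m : ℕ} (z : ULift.{u} (Fin m) → ModSite.sect (SheafOfModules.free (R := ModSite.ringSh O) (ULift.{u} (Fin n))) T)
    (W : C) (d : ULift.{u} (Fin m) → O.obj.obj (op W)) (i : ULift.{u} (Fin n)) :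
    toCoords n W ((homOf hT z).val.app (op W) (∑ j, d j • basicSec O W m j)) i =
      ∑ j, d j * O.obj.map (hT.from W).op (toCoords n T (z j) i) := by
  rw [homOf_sum]
  simp only [map_sum, map_smul, Finset.sum_apply, Pi.smul_apply]
  refine Finset.sum_congr rfl fun j _ => congrArg (fun z => d j * z) ?_
  exact PresheafOfModules.naturality_apply (coordHom (O := O) i).val (hT.from W).op (z j)

/-- A finite presentation in terms of sections over a terminal object. -/
theorem exists_sections_of_presentation (P : G.Presentation) [P.IsFinite] :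
    ∃ (n m : ℕ) (t : ULift.{u} (Fin n) → ModSite.sect G T)
      (g : ULift.{u} (Fin m) → ULift.{u} (Fin n) → O.obj.obj (op T)),
      (∀ j, ∑ i, g j i • t i = 0) ∧
      (∀ (W : C) (s : ModSite.sect G W), ∃ S ∈ J W, ∀ ⦃W' : C⦄ (a : W' ⟶ W), S a →
        ∃ c : ULift.{u} (Fin n) → O.obj.obj (op W'),
          ∑ k, c k • G.val.map (hT.from W').op (t k) = G.val.map a.op s) ∧
      ∀ (W : C) (c : ULift.{u} (Fin n) → O.obj.obj (op W)),
        ∑ k, c k • G.val.map (hT.from W).op (t k) = 0 → ∃ S ∈ J W, ∀ ⦃W' : C⦄ (a : W' ⟶ W), S a →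
          ∃ d : ULift.{u} (Fin m) → O.obj.obj (op W'),
            ∀ k, ∑ j, d j * O.obj.map (hT.from W').op (g j k) = O.obj.map a.op (c k) := by
  classical
  haveI : Finite P.generators.I := inferInstance
  haveI : Finite P.relations.I := SheafOfModules.Presentation.IsFinite.finite_relations P
  let R := ModSite.ringSh O
  let eI : ULift.{u} (Fin (Nat.card P.generators.I)) ≃ P.generators.I :=
    Equiv.ulift.trans (Finite.equivFin P.generators.I).symm
  let φ : SheafOfModules.free (R := R) (ULift.{u} (Fin (Nat.card P.generators.I))) ≅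
      SheafOfModules.free (R := R) P.generators.I := SheafOfModules.freeFunctor.mapIso eI.toIso
  let π : SheafOfModules.free (R := R) (ULift.{u} (Fin (Nat.card P.generators.I))) ⟶ G :=
    φ.hom ≫ P.generators.π
  let eJ : ULift.{u} (Fin (Nat.card P.relations.I)) ≃ P.relations.I :=
    Equiv.ulift.trans (Finite.equivFin P.relations.I).symm
  let ψ : SheafOfModules.free (R := R) (ULift.{u} (Fin (Nat.card P.relations.I))) ⟶
      SheafOfModules.free (R := R) (ULift.{u} (Fin (Nat.card P.generators.I))) :=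
    SheafOfModules.freeFunctor.map eJ.toIso.hom ≫ P.relations.π ≫ kernel.ι P.generators.π ≫ φ.inv
  have hψπ : ψ ≫ π = 0 := by simp [ψ, π, kernel.condition]
  let κ : kernel π ≅ kernel P.generators.π :=
    kernel.mapIso π P.generators.π φ (Iso.refl _) (by simp [π])
  let q : SheafOfModules.free (R := R) (ULift.{u} (Fin (Nat.card P.relations.I))) ⟶ kernel π :=
    SheafOfModules.freeFunctor.map eJ.toIso.hom ≫ P.relations.π ≫ κ.inv
  have hq : q ≫ kernel.ι π = ψ := by simp [q, ψ, κ, kernel.map]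
  haveI : Epi π := epi_comp _ _
  haveI : Epi q := inferInstance
  let t : ULift.{u} (Fin (Nat.card P.generators.I)) → ModSite.sect G T := fun i =>
    π.val.app (op T) (basicSec O T _ i)
  let z : ULift.{u} (Fin (Nat.card P.relations.I)) →
      ModSite.sect (SheafOfModules.free (R := R) (ULift.{u} (Fin (Nat.card P.generators.I)))) T := fun j =>
    ψ.val.app (op T) (basicSec O T _ j)
  have eπ : π = homOf hT t := eq_homOf hT π
  have eψ : ψ = homOf hT z := eq_homOf hT ψ
  refine ⟨_, _, t, fun j => toCoords _ T (z j), fun j => ?_, fun W s => ?_, fun W c hc => ?_⟩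
  · have h1 : π.val.app (op T) (z j) = 0 :=
      congrArg (fun f => f.val.app (op T) (basicSec O T _ j)) hψπ
    refine Eq.trans ?_ h1
    refine Eq.trans ?_ (congrArg (π.val.app (op T)) (eq_sum_basicSec T (z j))).symm
    rw [map_sum]
    exact Finset.sum_congr rfl fun i _ => (map_smul (π.val.app (op T)).hom _ _).symm
  · obtain ⟨S, hS, h⟩ := SuppCore.exists_cover_lift π s
    refine ⟨S, hS, fun W' a ha => ?_⟩
    obtain ⟨w, hw⟩ := h a ha
    refine ⟨toCoords _ W' w, ?_⟩
    rw [← homOf_sum hT t W' _, ← eπ]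
    exact (congrArg (π.val.app (op W')) (eq_sum_basicSec W' w)).symm.trans hw
  · obtain ⟨k, hk⟩ := exists_kernel_lift π W (∑ i, c i • basicSec O W _ i) (by
      rw [eπ, homOf_sum]
      exact hc)
    obtain ⟨S, hS, h⟩ := SuppCore.exists_cover_lift q k
    refine ⟨S, hS, fun W' a ha => ?_⟩
    obtain ⟨w, hw⟩ := h a ha
    refine ⟨toCoords _ W' w, fun i => ?_⟩
    have h2 : ψ.val.app (op W') w = (SheafOfModules.free (R := R) _).val.map a.op (∑ i, c i • basicSec O W _ i) := by
      rw [← hq, ← hk]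
      exact (congrArg ((kernel.ι π).val.app (op W')) hw).trans
        (PresheafOfModules.naturality_apply (kernel.ι π).val a.op k)
    refine Eq.trans (homOf_coords hT z W' (toCoords _ W' w) i).symm ?_
    have e1 : (homOf hT z).val.app (op W') (∑ j, toCoords _ W' w j • basicSec O W' _ j) = ψ.val.app (op W') w :=
      (congrArg (fun f : SheafOfModules.free (R := R) _ ⟶ _ => f.val.app (op W')
        (∑ j, toCoords _ W' w j • basicSec O W' _ j)) eψ.symm).trans
        (congrArg (ψ.val.app (op W')) (eq_sum_basicSec W' w).symm)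
    refine (congrArg (fun y => toCoords _ W' y i) e1).trans ?_
    refine (congrArg (fun y => toCoords _ W' y i) h2).trans ?_
    refine (PresheafOfModules.naturality_apply (coordHom (O := O) i).val a.op _).trans ?_
    exact congrArg (fun y => O.obj.map a.op y) (congrFun (toCoords_sum_basicSec W c) i)

end

/-- A finitely presented module has presentations near every point. -/
theorem exists_isPres (hF : SheafOfModules.IsFinitePresentation.{u} (R := ModSite.ringSh O) F) (x : X) :
    ∃ (U : Opens X) (n m : ℕ) (t : ULift.{u} (Fin n) → ModSite.sect F U)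
      (g : ULift.{u} (Fin m) → ULift.{u} (Fin n) → O.obj.obj (op U)), x ∈ U ∧ IsPres F U t g := by
  obtain ⟨σ, hσ⟩ := hF
  have hcov := (_root_.Opens.coversTop_iff _ σ.X).mp σ.coversTop
  obtain ⟨a, hxa⟩ := Opens.mem_iSup.mp (hcov.ge (Opens.mem_top x))
  haveI : (σ.presentation a).IsFinite := hσ.isFinite_presentation a
  obtain ⟨n, m, t, g, h0, hgen, hrel⟩ := exists_sections_of_presentation (C := Over (σ.X a))
    (O := O.over (σ.X a)) (T := Over.mk (𝟙 (σ.X a))) (G := (ModSite.restr O (σ.X a)).obj F)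
    Over.mkIdTerminal (σ.presentation a)
  refine ⟨σ.X a, n, m, t, g, hxa, ⟨h0, fun W hW s x hx => ?_, fun W hW c hc x hx => ?_⟩⟩
  · obtain ⟨S, hS, h⟩ := hgen (Over.mk (homOfLE hW)) s
    rw [GrothendieckTopology.mem_over_iff] at hS
    obtain ⟨V, f, hf, hxV⟩ := hS x hx
    obtain ⟨c, hc⟩ := h _ ((Sieve.overEquiv_iff _ _).mp hf)
    exact ⟨V, f.le, hxV, c, hc⟩
  · obtain ⟨S, hS, h⟩ := hrel (Over.mk (homOfLE hW)) c hc
    rw [GrothendieckTopology.mem_over_iff] at hS
    obtain ⟨V, f, hf, hxV⟩ := hS x hx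
    obtain ⟨d, hd⟩ := h _ ((Sieve.overEquiv_iff _ _).mp hf)
    exact ⟨V, f.le, hxV, d, hd⟩


end presentations

section general

variable {X : TopCat.{u}} {O : TopCat.Sheaf CommRingCat.{u} X} {F G : ModSite.Mod O}

/-- A module with presentations near every point is of finite presentation. -/
theorem isFinitePresentation_of_isPres
    (h : ∀ x : X, ∃ (U : Opens X) (n m : ℕ) (t : ULift.{u} (Fin n) → ModSite.sect F U)
      (g : ULift.{u} (Fin m) → ULift.{u} (Fin n) → O.obj.obj (op U)), x ∈ U ∧ IsPres F U t g) :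
    SheafOfModules.IsFinitePresentation.{u} (R := ModSite.ringSh O) F := by
  choose U n m t g hxU hP using h
  choose P hPf using fun x => (hP x).exists_presentation
  have hcov : (Opens.grothendieckTopology X).CoversTop U :=
    (_root_.Opens.coversTop_iff _ U).mpr (eq_top_iff.mpr fun x _ => Opens.mem_iSup.mpr ⟨x, hxU x⟩)
  let σ := SheafOfModules.QuasicoherentData.mk (M := F) (↥X) U hcov P
  have hσ : σ.IsFinitePresentation := by constructor; exact hPf
  constructor
  exact ⟨σ, hσ⟩

theorem sect_injective_of_mono (f : F ⟶ G) [Mono f] (U : Opens X) :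
    Function.Injective (f.val.app (op U)) := by
  haveI : Mono ((SheafOfModules.evaluation (ModSite.ringSh O) (op U)).map f) := inferInstance
  exact (ModuleCat.mono_iff_injective _).mp this

theorem mres_zero {U V : Opens X} (e : V ≤ U) : mres F e (0 : ModSite.sect F U) = 0 :=
  map_zero (F.val.map (homOfLE e).op).hom

theorem mres_sub {U V : Opens X} (e : V ≤ U) (x y : ModSite.sect F U) :
    mres F e (x - y) = mres F e x - mres F e y :=
  map_sub (F.val.map (homOfLE e).op).hom x y

end general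

section general

variable {X : TopCat.{u}} {O : TopCat.Sheaf CommRingCat.{u} X} {F G : ModSite.Mod O}

/-- Finitely many generating sections on a site with terminal object. -/
theorem exists_sections_of_generators {C : Type u} [SmallCategory C] {J : GrothendieckTopology C}
    {O : Sheaf J CommRingCat.{u}} {T : C} (hT : IsTerminal T) {G : ModSite.Mod O}
    (σ : G.GeneratingSections) [Finite σ.I] :
    ∃ (n : ℕ) (t : ULift.{u} (Fin n) → ModSite.sect G T),
      ∀ (W : C) (s : ModSite.sect G W), ∃ S ∈ J W, ∀ ⦃W' : C⦄ (a : W' ⟶ W), S a →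
        ∃ c : ULift.{u} (Fin n) → O.obj.obj (op W'),
          ∑ k, c k • G.val.map (hT.from W').op (t k) = G.val.map a.op s := by
  let R := ModSite.ringSh O
  let eI : ULift.{u} (Fin (Nat.card σ.I)) ≃ σ.I := Equiv.ulift.trans (Finite.equivFin σ.I).symm
  let π : SheafOfModules.free (R := R) (ULift.{u} (Fin (Nat.card σ.I))) ⟶ G :=
    (SheafOfModules.freeFunctor.mapIso eI.toIso).hom ≫ σ.π
  haveI : Epi π := epi_comp _ _
  let t : ULift.{u} (Fin (Nat.card σ.I)) → ModSite.sect G T := fun i =>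
    π.val.app (op T) (SiteBase.basicSec O T _ i)
  have eπ : π = homOf hT t := eq_homOf hT π
  refine ⟨_, t, fun W s => ?_⟩
  obtain ⟨S, hS, h⟩ := SuppCore.exists_cover_lift π s
  refine ⟨S, hS, fun W' a ha => ?_⟩
  obtain ⟨w, hw⟩ := h a ha
  refine ⟨SiteBase.toCoords _ W' w, ?_⟩
  rw [← homOf_sum hT t W' _, ← eπ]
  exact (congrArg (π.val.app (op W')) (SiteBase.eq_sum_basicSec W' w)).symm.trans hw

/-- A module of finite type has finitely many generators near every point. -/
theorem exists_gens (hF : SheafOfModules.IsFiniteType.{u} (R := ModSite.ringSh O) F) (x : X) :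
    ∃ (U : Opens X) (n : ℕ) (t : ULift.{u} (Fin n) → ModSite.sect F U), x ∈ U ∧
      ∀ (W : Opens X) (hW : W ≤ U) (s : ModSite.sect F W), ∀ y ∈ W,
        ∃ (V : Opens X) (e : V ≤ W), y ∈ V ∧ ∃ c : ULift.{u} (Fin n) → O.obj.obj (op V),
          ∑ i, c i • mres F (e.trans hW) (t i) = mres F e s := by
  obtain ⟨σ, hσ⟩ := hF
  have hcov := (_root_.Opens.coversTop_iff _ σ.X).mp σ.coversTop
  obtain ⟨a, hxa⟩ := Opens.mem_iSup.mp (hcov.ge (Opens.mem_top x))
  haveI : Finite (σ.generators a).I := by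
    haveI := hσ.isFiniteType a
    infer_instance
  obtain ⟨n, t, hgen⟩ := exists_sections_of_generators (C := Over (σ.X a)) (O := O.over (σ.X a))
    (T := Over.mk (𝟙 (σ.X a))) (G := (ModSite.restr O (σ.X a)).obj F) Over.mkIdTerminal (σ.generators a)
  refine ⟨σ.X a, n, t, hxa, fun W hW s y hy => ?_⟩
  obtain ⟨S, hS, h⟩ := hgen (Over.mk (homOfLE hW)) s
  rw [GrothendieckTopology.mem_over_iff] at hS
  obtain ⟨V, f, hf, hyV⟩ := hS y hy
  obtain ⟨c, hc⟩ := h _ ((Sieve.overEquiv_iff _ _).mp hf)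
  exact ⟨V, f.le, hyV, c, hc⟩

theorem gens_mono {U U' : Opens X} (e : U' ≤ U) {n : ℕ} {t : ULift.{u} (Fin n) → ModSite.sect F U}
    (ht : ∀ (W : Opens X) (hW : W ≤ U) (s : ModSite.sect F W), ∀ y ∈ W,
      ∃ (V : Opens X) (e : V ≤ W), y ∈ V ∧ ∃ c : ULift.{u} (Fin n) → O.obj.obj (op V),
        ∑ i, c i • mres F (e.trans hW) (t i) = mres F e s) (W : Opens X) (hW : W ≤ U') (s : ModSite.sect F W)
    (y : X) (hy : y ∈ W) :
    ∃ (V : Opens X) (e'' : V ≤ U') (e' : V ≤ W), y ∈ V ∧ ∃ c : ULift.{u} (Fin n) → O.obj.obj (op V),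
      ∑ i, c i • mres F e'' (mres F e (t i)) = mres F e' s := by
  obtain ⟨V, e', hyV, c, hc⟩ := ht W (hW.trans e) s y hy
  exact ⟨V, e'.trans hW, e', hyV, c, by simp only [mres_mres]; exact hc⟩

/-- A cokernel of presented modules is presented. -/
theorem IsPres.coker {A B C : ModSite.Mod O} (θ : A ⟶ B) (π : B ⟶ C) (w : θ ≫ π = 0) [Epi π]
    (hex : ∀ (W : Opens X) (b : ModSite.sect B W), π.val.app (op W) b = 0 →
      ∀ x ∈ W, ∃ (V : Opens X) (e : V ≤ W), x ∈ V ∧ ∃ a : ModSite.sect A V, θ.val.app (op V) a = mres B e b)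
    {U : Opens X} {n m q : ℕ} {t : ULift.{u} (Fin n) → ModSite.sect B U}
    {g : ULift.{u} (Fin m) → ULift.{u} (Fin n) → O.obj.obj (op U)} (hP : IsPres B U t g)
    {k : ULift.{u} (Fin q) → ModSite.sect A U}
    (hk : ∀ (W : Opens X) (hW : W ≤ U) (s : ModSite.sect A W), ∀ y ∈ W,
      ∃ (V : Opens X) (e : V ≤ W), y ∈ V ∧ ∃ c : ULift.{u} (Fin q) → O.obj.obj (op V),
        ∑ i, c i • mres A (e.trans hW) (k i) = mres A e s)
    (a : ULift.{u} (Fin q) → ULift.{u} (Fin n) → O.obj.obj (op U))
    (ha : ∀ l, ∑ i, a l i • t i = θ.val.app (op U) (k l)) :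
    IsPres C U (fun i => π.val.app (op U) (t i)) (fun j : ULift.{u} (Fin (m + q)) =>
      (Fin.addCases (fun j => g ⟨j⟩) (fun l => a ⟨l⟩) j.down : ULift.{u} (Fin n) → O.obj.obj (op U))) := by
  refine ⟨fun j => ?_, fun W hW s x hx => ?_, fun W hW c hc x hx => ?_⟩
  · obtain ⟨j⟩ := j
    induction j using Fin.addCases with
    | left j =>
      simp only [Fin.addCases_left]
      rw [← mapp_sum_smul, hP.rel0]
      exact map_zero (π.val.app (op U)).hom
    | right l =>
      simp only [Fin.addCases_right]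
      rw [← mapp_sum_smul, ha]
      exact congrArg (fun f : A ⟶ C => f.val.app (op U) (k ⟨l⟩)) w
  · obtain ⟨S, hS, h⟩ := SuppCore.exists_cover_lift π s
    obtain ⟨V₁, f, hf, hxV₁⟩ := hS x hx
    obtain ⟨b, hb⟩ := h f hf
    obtain ⟨V, e, hxV, c, hc⟩ := hP.gen V₁ (f.le.trans hW) b x hxV₁
    refine ⟨V, e.trans f.le, hxV, c, ?_⟩
    simp only [← mapp_res]
    rw [← mapp_sum_smul, hc, mapp_res]
    exact (congrArg (mres C e) hb).trans (mres_mres C f.le e s)
  · simp only [← mapp_res] at hc
    rw [← mapp_sum_smul] at hc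
    obtain ⟨V₁, e₁, hxV₁, α, hα⟩ := hex W _ hc x hx
    obtain ⟨V₂, e₂, hxV₂, b, hb⟩ := hk V₁ (e₁.trans hW) α x hxV₁
    have h1 : ∑ i, (ores O (e₂.trans e₁) (c i) - ∑ l, b l * ores O ((e₂.trans e₁).trans hW) (a l i)) •
        mres B ((e₂.trans e₁).trans hW) (t i) = 0 := by
      simp only [sub_smul, Finset.sum_sub_distrib, Finset.sum_smul, mul_smul]
      rw [sub_eq_zero, Finset.sum_comm]
      simp only [← Finset.smul_sum, ← mres_sum_smul, ha, ← mapp_res]
      rw [← mapp_sum_smul, hb, mapp_res, hα, mres_mres, mres_sum_smul]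
      simp only [mres_mres]
    obtain ⟨V, e, hxV, d, hd⟩ := hP.rel V₂ ((e₂.trans e₁).trans hW) _ h1 x hxV₂
    refine ⟨V, e.trans (e₂.trans e₁), hxV,
      fun j => Fin.addCases (fun j => d ⟨j⟩) (fun l => ores O e (b ⟨l⟩)) j.down, fun i => ?_⟩
    rw [← Equiv.sum_comp Equiv.ulift.symm, Fin.sum_univ_add]
    simp only [Equiv.ulift_symm_down, Fin.addCases_left, Fin.addCases_right]
    have hdi := hd i
    rw [map_sub, map_sum, eq_sub_iff_add_eq] at hdi
    simp only [map_mul, ores_ores] at hdi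
    rw [← Equiv.sum_comp Equiv.ulift.symm, ← Equiv.sum_comp Equiv.ulift.symm (fun l => ores O e (b l) * _)] at hdi
    exact hdi

end general

end Groth.Agent.RSpaceFT
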