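import Groth.Agent.RSpaceFT.Basis
import Groth.Agent.ModPull.TensorSec
import Groth.Agent.SiteBase.Invertible

/-!
# Invertible modules on a ringed space with local stalks have local frames
-/

set_option backward.isDefEq.respectTransparency false
set_option backward.isDefEq.respectTransparency.types false
set_option linter.style.haveILetI false

universe u

open CategoryTheory CategoryTheory.Limits TopologicalSpace Opposite MonoidalCategory
open Groth.Agent.ModTensor (fg sh shAdj tm rs)
open Groth.Agent.ModPull (ten shT shu)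
open scoped TensorProduct

noncomputable section

namespace Groth.Agent.RSpaceFT

variable {X : TopCat.{u}} {O : TopCat.Sheaf CommRingCat.{u} X} {L N : ModSite.Mod O}
  (e : ten L N ≅ ModSite.unit O)

/-- The pairing of a module with its inverse. -/
def pair {W : Opens X} (a : ModSite.sect L W) (b : ModSite.sect N W) : O.obj.obj (op W) :=
  ((fg O).map e.hom).app (op W) (shT L N a b)

theorem pair_res {W V : Opens X} (h : V ≤ W) (a : ModSite.sect L W) (b : ModSite.sect N W) :
    pair e (mres L h a) (mres N h b) = ores O h (pair e a b) :=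
  (congrArg (((fg O).map e.hom).app (op V))
    (ModPull.rs_shT (M := L) (N := N) (homOfLE h).op a b).symm).trans
      (ModTensor.app_rs ((fg O).map e.hom) (homOfLE h).op (shT L N a b))

theorem pair_smul_left {W : Opens X} (r : O.obj.obj (op W)) (a : ModSite.sect L W)
    (b : ModSite.sect N W) : pair e (r • a) b = r * pair e a b :=
  (congrArg (((fg O).map e.hom).app (op W)) (ModPull.shT_smul_left (M := L) (N := N) r a b)).trans
    (map_smul (((fg O).map e.hom).app (op W)).hom r (shT L N a b))

theorem pair_smul_right {W : Opens X} (r : O.obj.obj (op W)) (a : ModSite.sect L W)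
    (b : ModSite.sect N W) : pair e a (r • b) = r * pair e a b :=
  (congrArg (((fg O).map e.hom).app (op W)) (ModPull.shT_smul_right (M := L) (N := N) r a b)).trans
    (map_smul (((fg O).map e.hom).app (op W)).hom r (shT L N a b))

theorem pair_sub_left {W : Opens X} (a a' : ModSite.sect L W) (b : ModSite.sect N W) :
    pair e (a - a') b = pair e a b - pair e a' b := by
  have h : pair e (a - a' + a') b = pair e (a - a') b + pair e a' b :=
    (congrArg (((fg O).map e.hom).app (op W))
      (ModPull.shT_add_left (M := L) (N := N) (a - a') a' b)).trans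
      (map_add (((fg O).map e.hom).app (op W)).hom _ _)
  rw [sub_add_cancel] at h
  rw [h, add_sub_cancel_right]

/-- A frame of `L` on `W`: a section pairing to one with a section of the inverse. -/
structure Frame {W : Opens X} (l : ModSite.sect L W) (n : ModSite.sect N W) : Prop where
  pair_eq : pair e l n = 1

variable {e}

theorem Frame.res {W V : Opens X} {l : ModSite.sect L W} {n : ModSite.sect N W} (h : Frame e l n)
    (hV : V ≤ W) : Frame e (mres L hV l) (mres N hV n) :=
  ⟨by rw [pair_res, h.pair_eq, map_one]⟩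

/-- Every section is a multiple of a frame near each point. -/
theorem Frame.exists_eq_smul {W : Opens X} {l : ModSite.sect L W} {n : ModSite.sect N W}
    (h : Frame e l n) {x : X} (hx : x ∈ W) (a : ModSite.sect L W) :
    ∃ (V : Opens X) (hV : V ≤ W), x ∈ V ∧ mres L hV a = ores O hV (pair e a n) • mres L hV l := by
  have h0 : pair e (a - pair e a n • l) n = 0 := by
    rw [pair_sub_left, pair_smul_left, h.pair_eq, mul_one, sub_self]
  have hmono : Function.Injective (((fg O).map e.hom).app (op W)) := ModPull.app_injective e.hom (op W)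
  have h1 : shT L N (a - pair e a n • l) n = shT L N (0 : ModSite.sect L W) n := by
    rw [ModPull.shT_zero_left]
    exact hmono (h0.trans (map_zero (((fg O).map e.hom).app (op W)).hom).symm)
  obtain ⟨S, hS, hloc⟩ := ModPull.locally_eq_of_shu_eq ((fg O).obj L ⊗ (fg O).obj N : ModTensor.P₀ O)
    (tm (R := O.obj) (a - pair e a n • l) n) (tm (R := O.obj) (0 : ModSite.sect L W) n) h1
  obtain ⟨V, g, hg, hxV⟩ := hS x hx
  have hV : V ≤ W := g.le
  refine ⟨V, hV, hxV, ?_⟩
  have h2 : (mres L hV (a - pair e a n • l)) ⊗ₜ[O.obj.obj (op V)] (mres N hV n) =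
      (mres L hV (0 : ModSite.sect L W)) ⊗ₜ[O.obj.obj (op V)] (mres N hV n) := hloc g hg
  let T : ModSite.sect L V →ₗ[O.obj.obj (op V)] ModSite.sect N V →ₗ[O.obj.obj (op V)] ModSite.sect L V :=
    LinearMap.mk₂ _ (fun a' b => pair e (mres L hV l) b • a')
      (fun _ _ _ => smul_add _ _ _) (fun c _ _ => smul_comm _ c _)
      (fun a' b b' => by
        rw [← add_smul]
        exact congrArg (fun r : O.obj.obj (op V) => r • a') ((congrArg (((fg O).map e.hom).app (op V))
          (ModPull.shT_add_right (M := L) (N := N) (mres L hV l) b b')).trans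
          (map_add (((fg O).map e.hom).app (op V)).hom _ _)))
      (fun c a' b => by rw [pair_smul_right, mul_smul])
  have h3 := congrArg (TensorProduct.lift T) h2
  rw [TensorProduct.lift.tmul, TensorProduct.lift.tmul] at h3
  change pair e (mres L hV l) (mres N hV n) • mres L hV (a - pair e a n • l) =
    pair e (mres L hV l) (mres N hV n) • mres L hV (0 : ModSite.sect L W) at h3
  rw [(h.res hV).pair_eq, one_smul, one_smul] at h3
  refine sub_eq_zero.1 ?_
  rw [← mres_smul]
  refine ((map_sub (L.val.map (homOfLE hV).op).hom a (pair e a n • l)).symm.trans h3).trans ?_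
  exact map_zero (L.val.map (homOfLE hV).op).hom

variable (e)

/-- Frames exist near every point with local stalks. -/
theorem exists_frame (x : X)
    (hx : IsLocalRing (ModSite.stalkRing (Opens.pointGrothendieckTopology x) O)) :
    ∃ (W : Opens X) (l : ModSite.sect L W) (n : ModSite.sect N W), x ∈ W ∧ Frame e l n := by
  obtain ⟨S, hS, hloc⟩ := ModPull.locally_exists_shu ((fg O).obj L ⊗ (fg O).obj N : ModTensor.P₀ O)
    (W := (⊤ : Opens X)) (((fg O).map e.inv).app (op ⊤) (1 : O.obj.obj (op ⊤)))
  obtain ⟨V, g, hg, hxV⟩ := hS x trivial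
  obtain ⟨p, hp⟩ := hloc g hg
  let E : ((fg O).obj L ⊗ (fg O).obj N : ModTensor.P₀ O).obj (op V) → O.obj.obj (op V) :=
    fun q => ((fg O).map e.hom).app (op V) (shu ((fg O).obj L ⊗ (fg O).obj N : ModTensor.P₀ O) q)
  have hE1 : E p = 1 := by
    refine (congrArg (((fg O).map e.hom).app (op V)) hp).trans ?_
    refine (ModTensor.app_rs ((fg O).map e.hom) g.op _).trans ?_
    refine Eq.trans (congrArg _ ?_) (map_one (O.obj.map g.op).hom)
    exact congrArg (fun φ : ModSite.unit O ⟶ ModSite.unit O =>
      ((fg O).map φ).app (op ⊤) (1 : O.obj.obj (op ⊤))) e.inv_hom_id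
  have hadd : ∀ q q' : ((fg O).obj L ⊗ (fg O).obj N : ModTensor.P₀ O).obj (op V),
      E (q + q') = E q + E q' := fun q q' =>
    (congrArg (((fg O).map e.hom).app (op V)) (ModPull.shu_add _ q q')).trans
      (map_add (((fg O).map e.hom).app (op V)).hom _ _)
  have key : ∀ q, (∀ a b, ¬ IsUnit (gR x hxV (pair e (W := V) a b))) → ¬ IsUnit (gR x hxV (E q)) := by
    intro q hab
    induction q using TensorProduct.induction_on with
    | zero =>
      rw [show E 0 = 0 from (congrArg _ (ModPull.shu_zero _)).trans
        (map_zero (((fg O).map e.hom).app (op V)).hom), map_zero]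
      exact not_isUnit_zero
    | tmul a b => exact hab a b
    | add q q' hq hq' =>
      rw [show E (q + q') = E q + E q' from hadd q q', map_add]
      exact IsLocalRing.nonunits_add hq hq'
  obtain ⟨a, b, hab⟩ : ∃ a b, IsUnit (gR x hxV (pair e (W := V) a b)) := by
    by_contra hne
    refine key p (fun a b h => hne ⟨a, b, h⟩) ?_
    rw [hE1, map_one]
    exact isUnit_one
  obtain ⟨z, hz⟩ := hab.exists_right_inv
  obtain ⟨V', hxV', r, rfl⟩ := exists_gR x z
  have hW : x ∈ V ⊓ V' := ⟨hxV, hxV'⟩
  obtain ⟨W, hWle, hxW, heq⟩ := eq_of_gR x hW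
    (a := ores O inf_le_left (pair e a b) * ores O inf_le_right r) (b := 1)
    (by rw [map_mul, map_one, gR_res, gR_res]; exact hz)
  refine ⟨W, ores O (hWle.trans inf_le_right) r • mres L (hWle.trans inf_le_left) a,
    mres N (hWle.trans inf_le_left) b, hxW, ⟨?_⟩⟩
  rw [pair_smul_left, pair_res, mul_comm]
  rwa [map_mul, map_one, ores_ores, ores_ores] at heq

variable {e}

/-- Germs of a frame form a basis of the stalk. -/
theorem Frame.germ_bijective {W : Opens X} {l : ModSite.sect L W} {n : ModSite.sect N W}
    (h : Frame e l n) (x : X) (hx : x ∈ W) :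
    Function.Bijective (fun c : ModSite.stalkRing (Opens.pointGrothendieckTopology x) O =>
      c • gM L x hx l) := by
  constructor
  · refine fun c c' hcc => sub_eq_zero.1 ?_
    have h0 : (c - c') • gM L x hx l = 0 := by rw [sub_smul]; exact sub_eq_zero.2 hcc
    obtain ⟨V, hxV, r, hr⟩ := exists_gR x (c - c')
    rw [← hr] at h0 ⊢
    have hxI : x ∈ W ⊓ V := ⟨hx, hxV⟩
    obtain ⟨V', hle, hxV', heq⟩ := eq_of_germ x hxI
      (s := ores O inf_le_right r • mres L inf_le_left l) (t := 0) (by
        show gM L x hxI _ = gM L x hxI 0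
        rw [map_zero, gM_smul, gR_res, gM_res]
        exact h0)
    rw [← gR_res x (hle.trans inf_le_right) hxV' r]
    have hl := h.res (hle.trans inf_le_left)
    rw [mres_smul, ores_ores, mres_mres] at heq
    have h4 : pair e (ores O (hle.trans inf_le_right) r • mres L (hle.trans inf_le_left) l)
        (mres N (hle.trans inf_le_left) n) = 0 := by
      have e0 : (mres L hle (0 : ModSite.sect L (W ⊓ V))) = 0 := map_zero (L.val.map (homOfLE hle).op).hom
      rw [heq, e0]
      exact (congrArg (((fg O).map e.hom).app (op V')) (ModPull.shT_zero_left (M := L) (N := N) _)).trans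
        (map_zero (((fg O).map e.hom).app (op V')).hom)
    rw [pair_smul_left, hl.pair_eq, mul_one] at h4
    rw [h4, map_zero]
  · intro z
    obtain ⟨V, hxV, a, ha⟩ := exists_germ (F := L) x z
    have hxI : x ∈ W ⊓ V := ⟨hx, hxV⟩
    obtain ⟨V', hle, hxV', heq⟩ :=
      (h.res (inf_le_left : W ⊓ V ≤ W)).exists_eq_smul hxI (mres L (inf_le_right : W ⊓ V ≤ V) a)
    refine ⟨gR x hxI (pair e (mres L inf_le_right a) (mres N inf_le_left n)), ?_⟩
    have h5 := congrArg (gM L x hxV') heq
    rw [gM_smul, gR_res, gM_res, gM_res, gM_res, gM_res] at h5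
    exact h5.symm.trans ha

end Groth.Agent.RSpaceFT
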