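import Groth.Agent.RSpaceFT.Basis
import Groth.Agent.SiteBase.ModGroth
import Mathlib.LinearAlgebra.Matrix.ToLin
import Mathlib.RingTheory.LocalRing.Module
import Mathlib.Topology.Sheaves.Stalks
import Mathlib.Algebra.Category.ModuleCat.Sheaf.LocallyFree
import Mathlib.LinearAlgebra.InvariantBasisNumber
import Mathlib.Data.ENat.Lattice

/-!
# Ranks of locally free modules, stalks of bases, local rings of stalks
-/

set_option backward.isDefEq.respectTransparency false
set_option backward.isDefEq.respectTransparency.types false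
set_option linter.style.haveILetI false

universe u

open CategoryTheory CategoryTheory.Limits TopologicalSpace Opposite
open Groth.Agent.FModLib (homOf_basic)

noncomputable section

namespace Groth.Agent.RSpaceFT

variable {X : TopCat.{u}} {O : TopCat.Sheaf CommRingCat.{u} X} {F G : ModSite.Mod O}

/-- A basis of size `n` bounds the size of a free split quotient near a point with nonzero rings. -/
theorem card_le_of_basis_of_retract {U U' : Opens X} {n m : ℕ} {t : ULift.{u} (Fin n) → ModSite.sect F U}
    (ht : Gens F U t) (g : SheafOfModules.free (R := ModSite.ringSh (O.over U')) (ULift.{u} (Fin m)) ⟶ (ModSite.restr O U').obj F)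
    (ψ : (ModSite.restr O U').obj F ⟶ SheafOfModules.free (R := ModSite.ringSh (O.over U')) (ULift.{u} (Fin m)))
    (hgψ : g ≫ ψ = 𝟙 _) {x : X} (hx : x ∈ U) (hx' : x ∈ U')
    (hnt : ∀ V : Opens X, x ∈ V → Nontrivial (O.obj.obj (op V))) : m ≤ n := by
  let v : ULift.{u} (Fin m) → ModSite.sect F U' := fun k =>
    g.val.app (op (Over.mk (𝟙 U'))) (SiteBase.basicSec (O.over U') (Over.mk (𝟙 U')) m k)
  have hg : g = homU F v := eq_homOf (C := Over U') (O := O.over U') (T := Over.mk (𝟙 U')) Over.mkIdTerminal g
  have hx₀ : x ∈ U ⊓ U' := ⟨hx, hx'⟩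
  choose B eB hxB b hb using fun k => ht (U ⊓ U') inf_le_left (mres F inf_le_right (v k)) x hx₀
  obtain ⟨V, hxV, eV, hVB⟩ := exists_common_nhd x B hxB (U ⊓ U') hx₀
  let W : Over U' := Over.mk (homOfLE (eV.trans inf_le_right))
  let z : ULift.{u} (Fin n) → ModSite.sect ((ModSite.restr O U').obj F) W := fun l => mres F (eV.trans inf_le_left) (t l)
  let Q : ULift.{u} (Fin n) → ULift.{u} (Fin m) → (O.over U').obj.obj (op W) := fun l =>
    SiteBase.toCoords m W (ψ.val.app (op W) (z l))
  let P : ULift.{u} (Fin m) → ULift.{u} (Fin n) → (O.over U').obj.obj (op W) := fun k l => ores O (hVB k) (b k l)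
  have hP : ∀ k, ∑ l, P k l • z l = g.val.app (op W) (SiteBase.basicSec (O.over U') W m k) := fun k => by
    rw [hg]
    refine Eq.trans ?_ (homOf_basic (C := Over U') (O := O.over U') (T := Over.mk (𝟙 U'))
      (G := (ModSite.restr O U').obj F) Over.mkIdTerminal v W k).symm
    have h1 := congrArg (mres F (hVB k)) (hb k)
    rw [mres_sum_smul] at h1
    simp only [mres_mres] at h1
    exact h1
  have hPQ : ∀ k, (fun k' => ∑ l, P k l * Q l k') =
      SiteBase.toCoords m W (SiteBase.basicSec (O.over U') W m k) := fun k => by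
    have h1 : ψ.val.app (op W) (g.val.app (op W) (SiteBase.basicSec (O.over U') W m k)) =
        SiteBase.basicSec (O.over U') W m k :=
      congrArg (fun f : SheafOfModules.free (R := ModSite.ringSh (O.over U')) (ULift.{u} (Fin m)) ⟶ _ =>
        f.val.app (op W) (SiteBase.basicSec (O.over U') W m k)) hgψ
    rw [← hP k] at h1
    funext k'
    rw [← h1]
    simp only [map_sum, map_smul, Finset.sum_apply, Pi.smul_apply]
    rfl
  haveI : Nontrivial ((O.over U').obj.obj (op W)) := hnt V hxV
  let φ : (ULift.{u} (Fin m) → (O.over U').obj.obj (op W)) →ₗ[(O.over U').obj.obj (op W)]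
      (ULift.{u} (Fin n) → (O.over U').obj.obj (op W)) := Fintype.linearCombination _ P
  have hφ : Function.LeftInverse (Fintype.linearCombination ((O.over U').obj.obj (op W)) Q) φ := fun c => by
    funext k'
    simp only [φ, Fintype.linearCombination_apply, Finset.sum_apply, Pi.smul_apply, smul_eq_mul,
      Finset.sum_mul, mul_assoc]
    rw [Finset.sum_comm]
    refine Eq.trans (Finset.sum_congr rfl fun k _ => ?_) ?_ (b := ∑ k, c k * (Pi.single k 1 : _ → _) k')
    · rw [← Finset.mul_sum]
      refine congrArg (c k * ·) ?_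
      exact (congrFun (hPQ k) k').trans (congrFun (SiteBase.toCoords_basicSec (O := O.over U') m W k) k')
    · simp [Pi.single_apply]
  have := card_le_of_injective ((O.over U').obj.obj (op W)) (α := ULift.{u} (Fin m)) (β := ULift.{u} (Fin n)) φ hφ.injective
  simpa using this

/-- The rank of a free restriction is determined at every point with nonzero rings. -/
theorem card_le_card {U U' : Opens X} {I I' : Type u}
    (e : (ModSite.restr O U).obj F ≅ SheafOfModules.free I) (e' : (ModSite.restr O U').obj F ≅ SheafOfModules.free I')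
    {x : X} (hx : x ∈ U) (hx' : x ∈ U') (hnt : ∀ V : Opens X, x ∈ V → Nontrivial (O.obj.obj (op V))) :
    ENat.card I' ≤ ENat.card I := by
  classical
  cases finite_or_infinite I
  swap
  · rw [ENat.card_eq_top_of_infinite (α := I)]; exact le_top
  obtain ⟨n, ⟨eI⟩⟩ := Finite.exists_equiv_fin I
  obtain ⟨t, ht⟩ := exists_basis (e ≪≫ SheafOfModules.freeFunctor.mapIso
    (eI.trans Equiv.ulift.{u}.symm).toIso)
  have key : ∀ m : ℕ, ∀ f : ULift.{u} (Fin m) → I', Function.Injective f → m ≤ n := fun m f hf => by
    let π : SheafOfModules.free (R := ModSite.ringSh (O.over U')) I' ⟶ SheafOfModules.free (ULift.{u} (Fin m)) :=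
      Cofan.IsColimit.desc (SheafOfModules.isColimitFreeCofan I') fun i =>
        if h : ∃ k, f k = i then SheafOfModules.ιFree h.choose else 0
    have hfπ : SheafOfModules.freeMap f ≫ π = 𝟙 _ := by
      refine Cofan.IsColimit.hom_ext (SheafOfModules.isColimitFreeCofan _) _ _ fun k => ?_
      simp only [SheafOfModules.freeCofan_inj, SheafOfModules.ιFree_freeMap_assoc, Category.comp_id]
      rw [← SheafOfModules.freeCofan_inj, Cofan.IsColimit.fac]
      have h : ∃ k', f k' = f k := ⟨k, rfl⟩
      rw [dif_pos h, hf h.choose_spec]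
      exact (Category.comp_id _).symm
    exact card_le_of_basis_of_retract ht.gens (SheafOfModules.freeMap f ≫ e'.inv) (e'.hom ≫ π)
      (by rw [Category.assoc, e'.inv_hom_id_assoc, hfπ]) hx hx' hnt
  have hI : ENat.card I = n := by rw [ENat.card_congr eI]; simp
  rw [hI]
  cases finite_or_infinite I'
  · obtain ⟨m, ⟨eI'⟩⟩ := Finite.exists_equiv_fin I'
    rw [ENat.card_congr eI']
    simpa using key m (fun k => eI'.symm k.down) fun a b h => ULift.ext _ _ (eI'.symm.injective h)
  · exact absurd (key (n + 1) (fun k => Infinite.natEmbedding I' k.down) fun a b h =>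
      ULift.ext _ _ (Fin.ext ((Infinite.natEmbedding I').injective h))) (by omega)

/-- A basis gives a basis of the stalk. -/
theorem Basis.nonempty_stalk_basis {U : Opens X} {n : ℕ} {t : ULift.{u} (Fin n) → ModSite.sect F U}
    (ht : Basis F U t) (x : X) (hx : x ∈ U) :
    Nonempty (Module.Basis (ULift.{u} (Fin n)) (ModSite.stalkRing (Opens.pointGrothendieckTopology x) O)
      (ModSite.stalkMod (Opens.pointGrothendieckTopology x) F)) := by
  let v : ULift.{u} (Fin n) → ModSite.stalkMod (Opens.pointGrothendieckTopology x) F := fun i => gM F x hx (t i)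
  refine ⟨Module.Basis.mk (v := v) (Fintype.linearIndependent_iff.mpr fun d hd => ?_) fun z _ => ?_⟩
  · choose A hxA a ha using fun i => exists_gR x (d i)
    obtain ⟨V, hxV, eV, hVA⟩ := exists_common_nhd x A hxA U hx
    have h1 : gM F x hxV (∑ i, ores O (hVA i) (a i) • mres F eV (t i)) = gM F x hxV 0 := by
      rw [gM_sum_smul, map_zero]
      refine Eq.trans (Finset.sum_congr rfl fun i _ => ?_) hd
      rw [gR_res, ha, gM_res]
    obtain ⟨V', e', hxV', hV'⟩ := eq_of_germ x hxV h1
    rw [mres_sum_smul, mres_zero] at hV'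
    simp only [mres_mres, ores_ores] at hV'
    intro i
    have h2 := congrFun (ht.indep V' (e'.trans eV) _ hV') i
    have h3 := congrArg (gR x hxV') h2
    rw [gR_res, ha] at h3
    exact h3.trans (map_zero _)
  · obtain ⟨V, hxV, s, rfl⟩ := exists_germ (F := F) x z
    obtain ⟨W, e, hxW, c, hc⟩ := ht.gens (V ⊓ U) inf_le_right (mres F inf_le_left s) x ⟨hxV, hx⟩
    have h1 := congrArg (gM F x hxW) hc
    rw [gM_sum_smul, gM_res, gM_res] at h1
    have h2 : gM F x hxV s ∈ Submodule.span (ModSite.stalkRing (Opens.pointGrothendieckTopology x) O) (Set.range v) := by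
      rw [← h1]
      refine Submodule.sum_mem _ fun i _ => ?_
      rw [gM_res]
      exact Submodule.smul_mem _ (gR x hxW (c i)) (Submodule.subset_span ⟨i, rfl⟩)
    exact h2

/-- Units of the stalk of the structure sheaf in the topological sense give units at the point of the site. -/
theorem isUnit_gR {x : X} {U : Opens X} (hx : x ∈ U) {r : O.obj.obj (op U)}
    (h : IsUnit ((O.presheaf.germ U x hx).hom r)) : IsUnit (gR x hx r) := by
  obtain ⟨z, hz⟩ := h.exists_right_inv
  obtain ⟨V, hxV, b, rfl⟩ := O.presheaf.germ_exist (x := x) z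
  have hx₂ : x ∈ U ⊓ V := ⟨hx, hxV⟩
  rw [← O.presheaf.germ_res_apply (homOfLE (inf_le_left : U ⊓ V ≤ U)) x hx₂ r,
    ← O.presheaf.germ_res_apply (homOfLE (inf_le_right : U ⊓ V ≤ V)) x hx₂ b] at hz
  have hz' : (O.presheaf.germ (U ⊓ V) x hx₂).hom (ores O inf_le_left r * ores O inf_le_right b) =
      (O.presheaf.germ (U ⊓ V) x hx₂).hom 1 := by
    rw [map_mul, map_one]
    exact hz
  obtain ⟨W, hxW, i, j, hW⟩ := O.presheaf.germ_eq x hx₂ hx₂ _ _ hz'
  refine IsUnit.of_mul_eq_one (gR x hxV b) ?_
  have h1 := congrArg (gR x hxW) (show ores O i.le (ores O inf_le_left r * ores O inf_le_right b) = ores O j.le 1 from hW)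
  simp only [map_mul, map_one, gR_res] at h1
  exact h1

theorem nontrivial_sections {x : X} (hO : Nontrivial (O.presheaf.stalk x)) (V : Opens X) (hV : x ∈ V) :
    Nontrivial (O.obj.obj (op V)) :=
  (O.presheaf.germ V x hV).hom.domain_nontrivial

/-- Local rings of germs at the point of the site. -/
theorem isLocalRing_stalkRing {x : X} (hO : IsLocalRing (O.presheaf.stalk x)) :
    IsLocalRing (ModSite.stalkRing (Opens.pointGrothendieckTopology x) O) := by
  haveI : Nontrivial (ModSite.stalkRing (Opens.pointGrothendieckTopology x) O) := by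
    by_contra h
    rw [not_nontrivial_iff_subsingleton] at h
    obtain ⟨V, e, hxV, hV⟩ := eq_of_gR (O := O) x (U := ⊤) trivial (a := 0) (b := 1) (Subsingleton.elim _ _)
    haveI := nontrivial_sections (O := O) inferInstance V hxV
    exact zero_ne_one (((map_zero (ores O e)).symm.trans hV).trans (map_one _))
  refine IsLocalRing.of_isUnit_or_isUnit_one_sub_self fun a => ?_
  obtain ⟨V, hxV, r, rfl⟩ := exists_gR x a
  refine (IsLocalRing.isUnit_or_isUnit_one_sub_self ((O.presheaf.germ V x hxV).hom r)).imp (isUnit_gR hxV) fun h => ?_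
  rw [← map_one (gR (O := O) x hxV), ← map_sub]
  refine isUnit_gR hxV ?_
  rwa [map_sub, map_one]

end Groth.Agent.RSpaceFT
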